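import Cfsg.Agent.Lib.Walter.NoField.SmallPrime.Quot
import Cfsg.Agent.Lib.Order175560Uniq.Final

/-!
# Section Z, small primes: `E₀ ∩ C(x) ≅ PSL(2,5)`

`C(x)/⟨x⟩` is simple of order `175560`, so `l ∈ {7, 11, 19}`, and a Sylow `l`-subgroup is its own
centraliser with automiser of order 6, 10, 6.

Owner: helper87.
-/

set_option autoImplicit false
set_option linter.style.haveILetI false
set_option linter.unusedSectionVars false

universe u

namespace Cfsg.Agent.Lib.Walter.NoField.SmallPrime

open Subgroup JRCore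

namespace Data

variable {G : Type u} [Group G] [Finite G] {S : Sylow 2 G} {t : G} {E E₀ : Subgroup G} {x : G}
  {l : ℕ} [Fact l.Prime] (D : Data S t E E₀ x l)
include D

/-- A Sylow subgroup of order `l` equal to its centraliser. -/
theorem false_of_sylow (hsq : ¬ l ^ 2 ∣ Nat.card (Quo (centralizer ({x} : Set G))))
    (P : Sylow l (Quo (centralizer ({x} : Set G))))
    (hP : Nat.card ↥(P : Subgroup (Quo (centralizer ({x} : Set G)))) = l)
    (hc : Nat.card ↥(centralizer
      ((P : Subgroup (Quo (centralizer ({x} : Set G)))) : Set (Quo (centralizer ({x} : Set G))))) = l)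
    {p : ℕ} [Fact p.Prime] (hp2 : p ≠ 2) (hpl : p ≠ l)
    (hpN : p ∣ Nat.card ↥(normalizer
      ((P : Subgroup (Quo (centralizer ({x} : Set G)))) : Set (Quo (centralizer ({x} : Set G)))))) :
    False := by
  refine D.false_of_quot hsq P hP (le_of_eq ?_) hp2 hpl hpN
  haveI := isCyclic_of_prime_card hP
  letI : CommGroup ↥(P : Subgroup (Quo (centralizer ({x} : Set G)))) := IsCyclic.commGroup
  symm
  refine eq_of_le_of_card_ge (fun a ha => mem_centralizer_iff.2 fun b hb => ?_) (by rw [hP, hc])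
  exact congrArg Subtype.val
    (mul_comm (⟨b, hb⟩ : ↥(P : Subgroup (Quo (centralizer ({x} : Set G))))) ⟨a, ha⟩)

/-- `C(x)/⟨x⟩` is simple of order `175560`. -/
theorem quot_five (hK : PropKnown.{u}) (hL : PropKnownFacts.{u}) (hO : PropOrder.{u})
    (hIH : SmallerNoField G) (hb : Nat.card ↥(E₀ ⊓ centralizer ({x} : Set G)) ≤ 60)
    (hodd : IsOddType ↥(E₀ ⊓ centralizer ({x} : Set G))) :
    IsSimpleGroup (Quo (centralizer ({x} : Set G))) ∧
      Nat.card (Quo (centralizer ({x} : Set G))) = 175560 ∧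
      Nat.card ↥(E₀ ⊓ centralizer ({x} : Set G)) = 60 := by
  have C := D.ctx
  obtain ⟨K, -, hKn, -, -, hTK, -, hJR, huniq⟩ :=
    Cent.centralizer_large C.jr C.ord C.mem C.cent D.cen D.odd_ord hK hL D.ne_one hodd
  haveI := hKn
  set v : ↥K := ⟨D.tb, hTK (qm_mem_quoSylow D.le_cent C.mem)⟩ with hvdef
  have hv : orderOf v = 2 := by rw [hvdef, Subgroup.orderOf_mk, D.orderOf_tb]
  obtain ⟨E', E₀', h'⟩ := hJR.centralizer v hv
  have hlt : Nat.card ↥K < Nat.card G :=
    card_subgroup_quotient_lt (Cent.centralizer_ne_top C.jr D.ne_one) _ K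
  obtain ⟨F, i1, i2, ⟨e⟩, hF⟩ := order_of_smaller hO hIH hlt hJR hv h'
  obtain ⟨eL⟩ := Cent.fixedBar_equiv C.jr C.ord C.mem C.cent D.cen D.odd_ord
  have hLF : Nat.card ↥(E₀ ⊓ centralizer ({x} : Set G)) =
      Nat.card (Matrix.ProjectiveSpecialLinearGroup (Fin 2) F) := by
    rw [Nat.card_congr eL.toEquiv, ← huniq v rfl E' E₀' h',
      Subgroup.card_map_of_injective K.subtype_injective, Nat.card_congr e.toEquiv]
  rcases hF with ⟨k, hk, hkc, -⟩ | ⟨h5, hJ1⟩
  · exfalso
    have hq : 27 ≤ Fintype.card F := by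
      rw [hkc]
      calc 27 = 3 ^ 3 := by norm_num
        _ ≤ 3 ^ (2 * k + 1) := Nat.pow_le_pow_right (by norm_num) (by omega)
    have h2 := Linear.two_mul_card_PSL_two_of_odd (F := F)
      (by rw [hkc]; exact (show Odd 3 by decide).pow)
    rw [← hLF] at h2
    have : 26 * 1 ≤ (Fintype.card F - 1) * 1 := by omega
    have h3 : 27 * 26 * 28 ≤ Fintype.card F * (Fintype.card F - 1) * (Fintype.card F + 1) :=
      Nat.mul_le_mul (Nat.mul_le_mul hq (by omega)) (by omega)
    omega
  have hL60 : Nat.card ↥(E₀ ⊓ centralizer ({x} : Set G)) = 60 := by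
    have h2 := Linear.two_mul_card_PSL_two_of_odd (F := F) (by rw [h5]; decide)
    rw [← hLF, h5] at h2
    omega
  haveI : IsSimpleGroup ↥K := hJ1.1
  obtain ⟨t₀, ht₀, -, ⟨eC⟩⟩ := Order175560Uniq.exists_involution (G := ↥K) hJ1.2
  have hA5 : Nat.card (alternatingGroup (Fin 5)) = 60 := by
    rw [nat_card_alternatingGroup, Nat.card_eq_fintype_card, Fintype.card_fin]
    rfl
  have hCv : Nat.card ↥(centralizer ({v} : Set ↥K)) = 120 := by
    rw [← Order175560Uniq.centralizer_card_conj (hJR.conj t₀ v ht₀ hv),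
      Nat.card_congr eC.toEquiv, Nat.card_prod, hA5, Nat.card_eq_fintype_card,
      Fintype.card_multiplicative, ZMod.card]
  have hle : (centralizer ({v} : Set ↥K)).map K.subtype =
      centralizer ({D.tb} : Set (Quo (centralizer ({x} : Set G)))) := by
    refine eq_of_le_of_card_ge ?_ ?_
    · rintro _ ⟨z, hz, rfl⟩
      exact mem_centralizer_singleton_iff.2
        (congrArg Subtype.val (mem_centralizer_singleton_iff.1 hz))
    · rw [Subgroup.card_map_of_injective K.subtype_injective, hCv, D.card_cent_tb, hL60]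
  have hCK : centralizer ({D.tb} : Set (Quo (centralizer ({x} : Set G)))) ≤ K :=
    hle ▸ map_subtype_le _
  have htop : K = ⊤ := by
    refine eq_top_iff.2 fun y _ => ?_
    have hv' : y * D.tb * y⁻¹ ∈ K := hKn.conj_mem _ v.2 y
    obtain ⟨c, hc⟩ := isConj_iff.1 (hJR.conj v ⟨_, hv'⟩ hv
      (by rw [Subgroup.orderOf_mk, Involutions.Basic.orderOf_conj_eq, D.orderOf_tb]))
    have hc' : (c : Quo (centralizer ({x} : Set G))) * D.tb * (c : Quo _)⁻¹ = y * D.tb * y⁻¹ :=
      congrArg Subtype.val hc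
    have h1 : (c : Quo (centralizer ({x} : Set G)))⁻¹ * y ∈ K := by
      refine hCK (mem_centralizer_singleton_iff.2 ?_)
      calc (c : Quo (centralizer ({x} : Set G)))⁻¹ * y * D.tb
          = (c : Quo _)⁻¹ * (y * D.tb * y⁻¹) * y := by group
        _ = (c : Quo _)⁻¹ * ((c : Quo _) * D.tb * (c : Quo _)⁻¹) * y := by rw [hc']
        _ = D.tb * ((c : Quo _)⁻¹ * y) := by group
    have := mul_mem c.2 h1
    rwa [mul_inv_cancel_left] at this
  let eX : ↥K ≃* Quo (centralizer ({x} : Set G)) :=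
    (MulEquiv.subgroupCongr htop).trans Subgroup.topEquiv
  exact ⟨eX.symm.isSimpleGroup, (Nat.card_congr eX.toEquiv).symm.trans hJ1.2, hL60⟩

/-- The case `q₀ = 5`. -/
theorem false_five (hl : 5 ≤ l) (hK : PropKnown.{u}) (hL : PropKnownFacts.{u})
    (hO : PropOrder.{u}) (hIH : SmallerNoField G)
    (hb : Nat.card ↥(E₀ ⊓ centralizer ({x} : Set G)) ≤ 60)
    (hodd : IsOddType ↥(E₀ ⊓ centralizer ({x} : Set G))) : False := by
  classical
  obtain ⟨hs, hX, h60⟩ := D.quot_five hK hL hO hIH hb hodd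
  haveI := hs
  obtain ⟨r, hr, hlr⟩ := D.exists_index
  rw [hX, h60] at hr
  have hr' : r = 1463 := by omega
  subst hr'
  haveI : Fact (Nat.Prime 3) := ⟨Nat.prime_three⟩
  haveI : Fact (Nat.Prime 5) := ⟨by norm_num⟩
  haveI : Fact (Nat.Prime 7) := ⟨by norm_num⟩
  haveI : Fact (Nat.Prime 11) := ⟨by norm_num⟩
  haveI : Fact (Nat.Prime 19) := ⟨by norm_num⟩
  have L := Order175560Uniq.localData hX (default : Sylow 3 _) (default : Sylow 5 _)
    (default : Sylow 7 _) (default : Sylow 11 _) (default : Sylow 19 _)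
  have hN : ∀ {p : ℕ} [Fact p.Prime] (P : Sylow p (Quo (centralizer ({x} : Set G)))),
      Nat.card ↥(normalizer ((P : Subgroup (Quo (centralizer ({x} : Set G)))) : Set (Quo (centralizer ({x} : Set G))))) *
        Nat.card (Sylow p (Quo (centralizer ({x} : Set G)))) = 175560 := by
    intro p _ P
    rw [P.card_eq_index_normalizer, ← hX]
    exact card_mul_index _
  have hlp : l.Prime := Fact.out
  rcases (hlp.dvd_mul.1 (show l ∣ 7 * (11 * 19) by norm_num; exact hlr)) with h | h
  · obtain rfl := (Nat.prime_dvd_prime_iff_eq hlp (by norm_num)).1 h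
    have hn := hN (default : Sylow 7 (Quo (centralizer ({x} : Set G))))
    rw [L.n7] at hn
    exact D.false_of_sylow (by rw [hX]; norm_num) default
      (Order175560Uniq.sylow_card hX (by norm_num) (by norm_num) _) L.c7 (p := 3) (by norm_num)
      (by norm_num) (Dvd.intro 14 (by omega))
  rcases hlp.dvd_mul.1 h with h | h
  · obtain rfl := (Nat.prime_dvd_prime_iff_eq hlp (by norm_num)).1 h
    have hn := hN (default : Sylow 11 (Quo (centralizer ({x} : Set G))))
    rw [L.n11] at hn
    exact D.false_of_sylow (by rw [hX]; norm_num) default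
      (Order175560Uniq.sylow_card hX (by norm_num) (by norm_num) _) L.c11 (p := 5) (by norm_num)
      (by norm_num) (Dvd.intro 22 (by omega))
  · obtain rfl := (Nat.prime_dvd_prime_iff_eq hlp (by norm_num)).1 h
    have hn := hN (default : Sylow 19 (Quo (centralizer ({x} : Set G))))
    rw [L.n19] at hn
    exact D.false_of_sylow (by rw [hX]; norm_num) default
      (Order175560Uniq.sylow_card hX (by norm_num) (by norm_num) _) L.c19 (p := 3) (by norm_num)
      (by norm_num) (Dvd.intro 38 (by omega))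

end Data

end Cfsg.Agent.Lib.Walter.NoField.SmallPrime
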