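import Cfsg.Agent.Lib.PSLTwo.Sylow
import Cfsg.Agent.Lib.OddOrder.FeitThompson

/-!
# Section Z, small primes: subgroups of `GL(2, l)` mapping `(1,0)` to no other multiple of itself

`subsingleton_sylow`: such a subgroup has a single Sylow `l`-subgroup.  `fixed`: if moreover its
order is prime to `l` and it contains an element fixing `(1,0)` whose determinant does not square
to `1`, it fixes `(1,0)`.

Owner: helper87.
-/

set_option autoImplicit false
set_option linter.style.haveILetI false
set_option linter.unusedSectionVars false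

namespace Cfsg.Agent.Lib.Walter.NoField.SmallPrime

open Matrix Cfsg.Agent.Lib.PSLTwo.Sylow
open scoped MatrixGroups commutatorElement

variable {l : ℕ} [Fact l.Prime]

local notation "F" => ZMod l
local notation "SL" => Matrix.SpecialLinearGroup (Fin 2) F
local notation "GL2" => GL (Fin 2) F

/-- No element maps `(1,0)` to a multiple of itself other than itself. -/
def NoScalar (J : Subgroup GL2) : Prop :=
  ∀ h ∈ J, (h : Matrix (Fin 2) (Fin 2) F) 1 0 = 0 → (h : Matrix (Fin 2) (Fin 2) F) 0 0 = 1

theorem two_ne_zero' (hl : l ≠ 2) : (2 : F) ≠ 0 := by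
  refine two_ne_zero_of_odd ?_
  rw [ZMod.card]
  exact ((Fact.out : l.Prime).eq_two_or_odd).resolve_left hl

/-- The part of determinant one, inside `SL(2, l)`. -/
def special (J : Subgroup GL2) : Subgroup SL := J.comap Matrix.SpecialLinearGroup.toGL

theorem odd_special (hl : l ≠ 2) {J : Subgroup GL2} (hJ : NoScalar J) :
    Odd (Nat.card ↥(special J)) := by
  haveI : Fact (Nat.Prime 2) := ⟨Nat.prime_two⟩
  have h2 := two_ne_zero' (l := l) hl
  rw [← Nat.not_even_iff_odd, even_iff_two_dvd]
  intro hd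
  obtain ⟨g, hg⟩ := exists_prime_orderOf_dvd_card' 2 hd
  have hgg : (g : SL) * g = 1 := by
    have h0 := pow_orderOf_eq_one g
    rw [hg, pow_two] at h0
    exact congrArg Subtype.val h0
  rcases sq_eq_one h2 hgg with h | h
  · rw [show g = 1 from Subtype.ext h, orderOf_one] at hg
    omega
  · have h1 := hJ _ g.2
      (show ((Matrix.SpecialLinearGroup.toGL (g : SL) : GL2) : Matrix (Fin 2) (Fin 2) F) 1 0 = 0 by
        rw [h]; rfl)
    rw [h] at h1
    exact h2 (by
      have h3 : (-1 : F) = 1 := h1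
      linear_combination (-1 : F) * h3)

/-- An element of trace two is killed only by exponents divisible by `l`. -/
theorem eq_one_of_tr_two {g : SL} (ht : slTr g = 2) {k : ℕ} (hk : (k : F) ≠ 0) (hg : g ^ k = 1) :
    g = 1 := by
  have hN : (g.1 - 1) * (g.1 - 1) = 0 := by
    have d := det_eq g
    simp only [slTr] at ht
    ext i k
    fin_cases i <;> fin_cases k <;> simp [Matrix.mul_apply, Fin.sum_univ_two]
    · linear_combination g.1 0 0 * ht - d
    · linear_combination g.1 0 1 * ht
    · linear_combination g.1 1 0 * ht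
    · linear_combination g.1 1 1 * ht - d
  have hp : ∀ k : ℕ, g.1 ^ k = 1 + (k : F) • (g.1 - 1) := by
    intro k
    induction k with
    | zero => simp
    | succ k ih =>
      calc g.1 ^ (k + 1) = (1 + (k : F) • (g.1 - 1)) * (1 + (g.1 - 1)) := by
            rw [pow_succ, ih, add_sub_cancel]
        _ = 1 + ((k + 1 : ℕ) : F) • (g.1 - 1) := by
            rw [add_mul, one_mul, mul_add, mul_one, smul_mul_assoc, hN, smul_zero]
            push_cast
            rw [add_smul, one_smul]; abel
  have h1 := hp k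
  rw [← Matrix.SpecialLinearGroup.coe_pow, hg, Matrix.SpecialLinearGroup.coe_one,
    eq_comm, add_eq_left, smul_eq_zero] at h1
  exact Subtype.ext (sub_eq_zero.1 (h1.resolve_left hk))

/-- There is only one Sylow `l`-subgroup. -/
theorem subsingleton_sylow (hl : l ≠ 2) {J : Subgroup GL2} (hJ : NoScalar J) (Q Q' : Sylow l ↥J) :
    Q = Q' := by
  have hodd := odd_special hl hJ
  set J₀ := special J with hJ₀
  have hlp : l.Prime := Fact.out
  -- one Sylow subgroup in the part of determinant one
  have hone : ∀ R R' : Sylow l ↥J₀, R = R' := by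
    obtain ⟨R₀⟩ : Nonempty (Sylow l ↥J₀) := inferInstance
    suffices h1 : Nat.card (Sylow l ↥J₀) = 1 by
      intro R R'
      exact (Nat.card_eq_one_iff_unique.1 h1).1.elim R R'
    set n := Nat.card (Sylow l ↥J₀) with hn
    have hmod : n ≡ 1 [MOD l] := card_sylow_modEq_one l ↥J₀
    have hdi := R₀.card_dvd_index
    have hdc : n ∣ Nat.card ↥J₀ := hdi.trans (Subgroup.index_dvd_card _)
    have hnodd : Odd n := hodd.of_dvd_nat hdc
    have hsl : n ∣ (l ^ 2 - 1) * (l ^ 2 - l) := by
      refine hdc.trans ((Subgroup.card_subgroup_dvd_card J₀).trans ⟨l - 1, ?_⟩)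
      have h := card_SL («F» := ZMod l)
      rw [ZMod.card] at h
      exact h.symm
    have hcop : Nat.Coprime n l := by
      rw [Nat.coprime_comm, hlp.coprime_iff_not_dvd, Nat.dvd_iff_mod_eq_zero,
        show n % l = 1 % l from hmod, Nat.mod_eq_of_lt hlp.one_lt]
      omega
    -- no factor `l`, and the index of a Sylow subgroup divides `l ^ 2 - 1`
    have hd2 : n ∣ l ^ 2 - 1 := by
      by_cases hdl : l ∣ Nat.card ↥J₀
      · have hR : l ∣ Nat.card ↥(R₀ : Subgroup ↥J₀) := by
          simpa using R₀.pow_dvd_card_of_pow_dvd_card (n := 1) (by simpa using hdl)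
        have h := card_SL («F» := ZMod l)
        rw [ZMod.card, show l ^ 2 - l = l * (l - 1) by rw [Nat.mul_sub, mul_one, pow_two],
          ← mul_assoc] at h
        have hcard : Nat.card SL = (l ^ 2 - 1) * l :=
          Nat.eq_of_mul_eq_mul_right (by have := hlp.two_le; omega) h
        have h3 : n * l ∣ (l ^ 2 - 1) * l := by
          rw [← hcard]
          refine dvd_trans ?_ (Subgroup.card_subgroup_dvd_card J₀)
          rw [← Subgroup.index_mul_card (R₀ : Subgroup ↥J₀)]
          exact Nat.mul_dvd_mul hdi hR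
        exact Nat.dvd_of_mul_dvd_mul_right hlp.pos h3
      · have hbot : ∀ R : Sylow l ↥J₀, (R : Subgroup ↥J₀) = ⊥ := fun R => by
          obtain ⟨k, hk⟩ := IsPGroup.iff_card.1 R.isPGroup'
          rcases k with _ | k
          · exact Subgroup.card_eq_one.1 (by simpa using hk)
          · exact absurd ((((dvd_pow_self l (Nat.succ_ne_zero k)).trans hk.symm.dvd)).trans
              (Subgroup.card_subgroup_dvd_card _)) hdl
        have : n = 1 := Nat.card_eq_one_iff_unique.2
          ⟨⟨fun R R' => Sylow.ext (by rw [hbot R, hbot R'])⟩, ⟨R₀⟩⟩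
        rw [this]
        exact one_dvd _
    obtain ⟨e, he⟩ := hd2
    have hne : n % l = 1 := by rw [show n % l = 1 % l from hmod, Nat.mod_eq_of_lt hlp.one_lt]
    obtain ⟨a, hna⟩ : ∃ a, n = l * a + 1 := ⟨n / l, by have := Nat.div_add_mod n l; omega⟩
    rcases Nat.eq_zero_or_pos a with h0 | hpos
    · rw [hna, h0, mul_zero]
    -- `(l a + 1) e = l² - 1`
    exfalso
    have he' : (l * a + 1) * e + 1 = l * l := by
      rw [← hna, ← he, pow_two]
      have : 0 < l * l := Nat.mul_pos hlp.pos hlp.pos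
      omega
    obtain ⟨s, hs⟩ : l ∣ e + 1 := by
      have : l ∣ l * (a * e) + (e + 1) := ⟨l, by rw [← he']; ring⟩
      exact (Nat.dvd_add_right (dvd_mul_right l _)).1 this
    have hs1 : 1 ≤ s := by
      rcases Nat.eq_zero_or_pos s with h | h
      · rw [h, mul_zero] at hs
        omega
      · exact h
    have heq : a * e + s = l := by
      refine Nat.eq_of_mul_eq_mul_left hlp.pos ?_
      rw [← he', mul_add, ← hs]
      ring
    have hle : l * s ≤ e + 1 := hs.ge
    -- `a = 1`, so `n = l + 1` is even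
    have ha1 : a = 1 := by
      by_contra hne1
      have h2a : 2 ≤ a := by omega
      have : 2 * e ≤ a * e := Nat.mul_le_mul_right e h2a
      have hls : l * 1 ≤ l * s := Nat.mul_le_mul_left l hs1
      have := hlp.two_le
      omega
    rw [hna, ha1, mul_one] at hnodd
    have hl2 := hlp.eq_two_or_odd.resolve_left hl
    rw [Nat.odd_iff] at hnodd
    omega
  -- every Sylow subgroup of `J` has determinant one
  have hdet : ∀ R : Sylow l ↥J, ∀ g ∈ (R : Subgroup ↥J),
      Matrix.GeneralLinearGroup.det (g : GL2) = 1 := by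
    intro R g hg
    obtain ⟨k, hk⟩ := R.isPGroup' ⟨g, hg⟩
    have h1 : Matrix.GeneralLinearGroup.det (g : GL2) ^ l ^ k = 1 := by
      rw [← map_pow, ← Subgroup.coe_pow, show g ^ l ^ k = 1 from congrArg Subtype.val hk,
        OneMemClass.coe_one, map_one]
    refine Units.ext ?_
    have h2 := congrArg Units.val h1
    rw [Units.val_pow_eq_pow_val, ZMod.pow_card_pow] at h2
    exact h2
  let ι : ↥J₀ →* ↥J :=
    { toFun := fun g => ⟨Matrix.SpecialLinearGroup.toGL (g : SL), g.2⟩
      map_one' := Subtype.ext (map_one _)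
      map_mul' := fun a b => Subtype.ext (map_mul _ _ _) }
  have hι : Function.Injective ι := fun a b h =>
    Subtype.ext (Matrix.SpecialLinearGroup.toGL_injective (congrArg Subtype.val h))
  have hrange : ∀ R : Sylow l ↥J, (R : Subgroup ↥J) ≤ ι.range := by
    intro R g hg
    have hd := congrArg Units.val (hdet R g hg)
    have hd' : ((g : GL2) : Matrix (Fin 2) (Fin 2) F).det = 1 := hd
    refine ⟨⟨⟨((g : GL2) : Matrix (Fin 2) (Fin 2) F), hd'⟩, ?_⟩, ?_⟩
    · show Matrix.SpecialLinearGroup.toGL _ ∈ J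
      convert g.2 using 1
      exact Units.ext rfl
    · exact Subtype.ext (Units.ext rfl)
  obtain ⟨U⟩ : Nonempty (Sylow l ↥J₀) := inferInstance
  have hUR : ∀ R : Sylow l ↥J, (R : Subgroup ↥J) ≤ (U : Subgroup ↥J₀).map ι := by
    intro R
    have hp : IsPGroup l ↥((R : Subgroup ↥J).comap ι) :=
      R.isPGroup'.comap_of_injective ι hι
    obtain ⟨U', hU'⟩ := hp.exists_le_sylow
    rw [hone U U']
    intro g hg
    obtain ⟨g₀, rfl⟩ := hrange R hg
    exact ⟨g₀, hU' hg, rfl⟩
  have hpU : IsPGroup l ↥((U : Subgroup ↥J₀).map ι) := U.isPGroup'.map ι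
  have e1 := Q.is_maximal' hpU (hUR Q)
  have e2 := Q'.is_maximal' hpU (hUR Q')
  exact Sylow.ext (e1.symm.trans e2)

/-- Order prime to `l` and an element fixing `(1,0)` of determinant of square not one. -/
theorem fixed (hl : l ≠ 2) {J : Subgroup GL2} (hJ : NoScalar J) (hcop : ¬ l ∣ Nat.card ↥J)
    {δ : GL2} (hδ : δ ∈ J) (hδ10 : (δ : Matrix (Fin 2) (Fin 2) F) 1 0 = 0)
    (hdet : (δ : Matrix (Fin 2) (Fin 2) F) 1 1 ^ 2 ≠ 1) {h : GL2} (hh : h ∈ J) :
    (h : Matrix (Fin 2) (Fin 2) F) 1 0 = 0 := by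
  have h2 := two_ne_zero' (l := l) hl
  have hodd := odd_special hl hJ
  set J₀ := special J with hJ₀
  have hord : ∀ g : ↥J₀, ((orderOf g : ℕ) : F) ≠ 0 := by
    intro g h0
    rw [ZMod.natCast_eq_zero_iff] at h0
    have hd : orderOf g ∣ Nat.card ↥J := by
      have hgJ : Matrix.SpecialLinearGroup.toGL (g : SL) ∈ J := Subgroup.mem_comap.1 g.2
      have : orderOf g = orderOf (⟨Matrix.SpecialLinearGroup.toGL (g : SL), hgJ⟩ : ↥J) := by
        rw [← Subgroup.orderOf_coe g,
          ← Subgroup.orderOf_coe (⟨Matrix.SpecialLinearGroup.toGL (g : SL), hgJ⟩ : ↥J)]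
        exact (orderOf_injective _ Matrix.SpecialLinearGroup.toGL_injective _).symm
      rw [this]
      exact orderOf_dvd_natCard _
    exact hcop (h0.trans hd)
  have htr : ∀ g : ↥J₀, g ≠ 1 → slTr (g : SL) ^ 2 ≠ 4 ∧ NonScalar (g : SL) := by
    intro g hg
    have hgo : (g : SL) ^ orderOf g = 1 := by
      rw [← Subgroup.coe_pow, pow_orderOf_eq_one, OneMemClass.coe_one]
    have hne : (g : SL) ≠ negOne := fun he => by
      have : orderOf g = 2 := by rw [← Subgroup.orderOf_coe, he, orderOf_negOne h2]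
      have h' := hodd.of_dvd_nat (this ▸ orderOf_dvd_natCard g)
      exact absurd h' (by decide)
    refine ⟨fun ht => ?_, (nonScalar_iff h2).2 ⟨fun h1 => hg (Subtype.ext h1), hne⟩⟩
    rcases sq_eq_sq_iff_eq_or_eq_neg.mp
      (show slTr (g : SL) ^ 2 = (2 : F) ^ 2 by rw [ht]; norm_num) with h | h
    · exact hg (Subtype.ext (eq_one_of_tr_two h (hord g) hgo))
    · have hc : Commute negOne (g : SL) := negOne_central _
      have hg2 : (negOne * (g : SL)) ^ (2 * orderOf g) = 1 := by
        rw [hc.mul_pow, pow_mul, pow_two, negOne_sq, one_pow, one_mul, mul_comm, pow_mul, hgo,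
          one_pow]
      have ht' : slTr (negOne * (g : SL)) = 2 := by
        simp only [slTr] at h ⊢
        rw [negOne_mul]; simp; linear_combination -h
      have h1 := eq_one_of_tr_two ht' (by
        push_cast; exact mul_ne_zero h2 (hord g)) hg2
      apply hne
      calc (g : SL) = negOne * (negOne * (g : SL)) := by rw [← mul_assoc, negOne_sq, one_mul]
        _ = negOne := by rw [h1, mul_one]
  -- an element commuting with a conjugate of itself by `y`
  have key : ∀ (g : ↥J₀), g ≠ 1 → ∀ b : SL, b * g = g * b → slTr b = slTr (g : SL) →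
      b = g ∨ b = (g : SL)⁻¹ := fun g hg b hb ht =>
    eq_or_eq_inv h2 (htr g hg).2 (htr g hg).1 hb ht
  -- the part of determinant one is commutative
  have hcomm : ∀ a b : ↥J₀, a * b = b * a := by
    suffices hk : ∀ k : ℕ, (∀ a ∈ derivedSeries ↥J₀ k, ∀ b ∈ derivedSeries ↥J₀ k, a * b = b * a) →
        ∀ a b : ↥J₀, a * b = b * a by
      haveI : Group.IsSolvable ↥J₀ := OddOrder.FeitThompson.isSolvable_of_odd_card hodd
      obtain ⟨n, hn⟩ := (Group.isSolvable_def _).1 ‹_›
      refine hk n fun a ha b hb => ?_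
      rw [hn, Subgroup.mem_bot] at ha
      rw [ha, one_mul, mul_one]
    intro k
    induction k with
    | zero => exact fun h a b => h a (Subgroup.mem_top a) b (Subgroup.mem_top b)
    | succ k ih =>
      intro h
      by_cases hbot : derivedSeries ↥J₀ (k + 1) = ⊥
      · refine ih fun a ha b hb => ?_
        have : ⁅a, b⁆ ∈ derivedSeries ↥J₀ (k + 1) := by
          rw [derivedSeries_succ]; exact Subgroup.commutator_mem_commutator ha hb
        rw [hbot, Subgroup.mem_bot] at this
        exact commutatorElement_eq_one_iff_mul_comm.1 this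
      · obtain ⟨⟨g, hgm⟩, hg⟩ := Subgroup.ne_bot_iff_exists_ne_one.1 hbot
        have hg1 : g ≠ 1 := fun e => hg (Subtype.ext e)
        have hC : ∀ y : ↥J₀, y * g = g * y := by
          intro y
          have hm := (derivedSeries_normal ↥J₀ (k + 1)).conj_mem g hgm y
          have hb := h _ hm g hgm
          rcases key g hg1 ((y * g * y⁻¹ : ↥J₀) : SL) (congrArg Subtype.val hb)
              (by simp only [Subgroup.coe_mul, Subgroup.coe_inv]; exact slTr_conj _ _) with e | e
          · exact mul_inv_eq_iff_eq_mul.1 (Subtype.ext e)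
          · have e' : y * g * y⁻¹ = g⁻¹ := Subtype.ext e
            have hy2 : Commute (y ^ 2) g := by
              refine mul_inv_eq_iff_eq_mul.1 ?_
              rw [show y ^ 2 * g * (y ^ 2)⁻¹ = y * (y * g * y⁻¹) * y⁻¹ by rw [pow_two]; group, e',
                ← conj_inv, e', inv_inv]
            obtain ⟨j, hj⟩ := hodd.of_dvd_nat (orderOf_dvd_natCard y)
            have hy : y = (y ^ 2) ^ (j + 1) := by
              rw [← pow_mul, show 2 * (j + 1) = orderOf y + 1 by omega, pow_succ, pow_orderOf_eq_one,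
                one_mul]
            rw [hy]
            exact (hy2.pow_left _).eq
        intro a b
        exact Subtype.ext (commute_of_commute (htr g hg1).2 (congrArg Subtype.val (hC a))
          (congrArg Subtype.val (hC b)))
  -- it is trivial
  have hconj : ∀ g : ↥J₀, ∃ g' : ↥J₀, ((g' : SL) : Matrix (Fin 2) (Fin 2) F) =
      (δ : Matrix (Fin 2) (Fin 2) F) * ((g : SL) : Matrix (Fin 2) (Fin 2) F) *
        ((δ⁻¹ : GL2) : Matrix (Fin 2) (Fin 2) F) := by
    intro g
    have hm : δ * Matrix.SpecialLinearGroup.toGL (g : SL) * δ⁻¹ ∈ J :=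
      mul_mem (mul_mem hδ g.2) (inv_mem hδ)
    have hd : ((δ * Matrix.SpecialLinearGroup.toGL (g : SL) * δ⁻¹ : GL2) :
        Matrix (Fin 2) (Fin 2) F).det = 1 := by
      have h1 : Matrix.GeneralLinearGroup.det
          (δ * Matrix.SpecialLinearGroup.toGL (g : SL) * δ⁻¹ : GL2) = 1 := by
        rw [map_mul, map_mul, map_inv, mul_right_comm, mul_inv_cancel, one_mul]
        exact Units.ext (g : SL).2
      exact congrArg Units.val h1
    refine ⟨⟨⟨_, hd⟩, ?_⟩, rfl⟩
    show Matrix.SpecialLinearGroup.toGL _ ∈ J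
    convert hm using 1
    exact Units.ext rfl
  have htriv : ∀ g : ↥J₀, g = 1 := by
    intro g
    by_contra hg
    obtain ⟨g', hg'⟩ := hconj g
    obtain ⟨g'', hg''⟩ := hconj g'
    -- `δ²` commutes with `g`
    have hδi : ((δ⁻¹ : GL2) : Matrix (Fin 2) (Fin 2) F) * (δ : Matrix (Fin 2) (Fin 2) F) = 1 := by
      rw [← Units.val_mul, inv_mul_cancel, Units.val_one]
    have hδi' : (δ : Matrix (Fin 2) (Fin 2) F) * ((δ⁻¹ : GL2) : Matrix (Fin 2) (Fin 2) F) = 1 := by
      rw [← Units.val_mul, mul_inv_cancel, Units.val_one]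
    have hgg : g'' = g := by
      rcases key g hg (g' : SL) (congrArg Subtype.val (hcomm g' g)) (by
          show (g' : SL).1 0 0 + (g' : SL).1 1 1 = (g : SL).1 0 0 + (g : SL).1 1 1
          have := congrArg Matrix.trace hg'
          rw [Matrix.trace_mul_cycle, hδi, one_mul, Matrix.trace_fin_two, Matrix.trace_fin_two]
            at this
          exact this) with e | e
      · refine Subtype.ext (Subtype.ext ?_)
        rw [hg'', e, ← hg', e]
      · have e' : g' = g⁻¹ := Subtype.ext e
        have hinv : g'' = g'⁻¹ := by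
          refine eq_inv_of_mul_eq_one_left (Subtype.ext (Subtype.ext ?_))
          show ((g'' : SL) : Matrix (Fin 2) (Fin 2) F) * ((g' : SL) : Matrix (Fin 2) (Fin 2) F) = 1
          rw [hg'', hg']
          have hgg' : ((g' : SL) : Matrix (Fin 2) (Fin 2) F) *
              ((g : SL) : Matrix (Fin 2) (Fin 2) F) = 1 := by
            rw [← Matrix.SpecialLinearGroup.coe_mul, ← Subgroup.coe_mul, e', inv_mul_cancel]
            rfl
          rw [hg'] at hgg'
          calc _ = (δ : Matrix (Fin 2) (Fin 2) F) *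
                ((δ : Matrix (Fin 2) (Fin 2) F) * (g : SL).1 *
                  ((δ⁻¹ : GL2) : Matrix (Fin 2) (Fin 2) F) *
                (((δ⁻¹ : GL2) : Matrix (Fin 2) (Fin 2) F) * (δ : Matrix (Fin 2) (Fin 2) F)) *
                (g : SL).1) * ((δ⁻¹ : GL2) : Matrix (Fin 2) (Fin 2) F) := by noncomm_ring
            _ = 1 := by rw [hδi, mul_one, hgg', mul_one, hδi']
        rw [hinv, e', inv_inv]
    have hm : (δ : Matrix (Fin 2) (Fin 2) F) * (δ : Matrix (Fin 2) (Fin 2) F) * (g : SL).1 =
        (g : SL).1 * ((δ : Matrix (Fin 2) (Fin 2) F) * (δ : Matrix (Fin 2) (Fin 2) F)) := by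
      conv_rhs => rw [← hgg, hg'', hg']
      simp only [mul_assoc]
      rw [← mul_assoc _ (δ : Matrix (Fin 2) (Fin 2) F) (δ : Matrix (Fin 2) (Fin 2) F), hδi, one_mul,
        hδi, mul_one]
    have h00 : (δ : Matrix (Fin 2) (Fin 2) F) 0 0 = 1 := hJ δ hδ hδ10
    have he := congrFun (congrFun hm 1) 0
    simp only [Matrix.mul_apply, Fin.sum_univ_two, hδ10, h00] at he
    have hg10 : (g : SL).1 1 0 = 0 := by
      have : ((δ : Matrix (Fin 2) (Fin 2) F) 1 1 ^ 2 - 1) * (g : SL).1 1 0 = 0 := by
        linear_combination he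
      exact (mul_eq_zero.1 this).resolve_left (sub_ne_zero.2 hdet)
    have hg00 : (g : SL).1 0 0 = 1 := hJ _ g.2 hg10
    have hd := det_eq (g : SL)
    rw [hg00, hg10] at hd
    have hg11 : (g : SL).1 1 1 = 1 := by linear_combination hd
    exact hg (Subtype.ext (eq_one_of_tr_two (by simp only [slTr, hg00, hg11]; norm_num) (hord g) (by
      rw [← Subgroup.coe_pow, pow_orderOf_eq_one, OneMemClass.coe_one])))
  -- `δ` and `h` commute
  have hdc : ((h * δ * h⁻¹ * δ⁻¹ : GL2) : Matrix (Fin 2) (Fin 2) F).det = 1 := by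
    have h1 : Matrix.GeneralLinearGroup.det (h * δ * h⁻¹ * δ⁻¹ : GL2) = 1 := by
      rw [map_mul, map_mul, map_mul, map_inv, map_inv, mul_right_comm _ _
        (Matrix.GeneralLinearGroup.det h)⁻¹, mul_inv_cancel, one_mul, mul_inv_cancel]
    exact congrArg Units.val h1
  have hm : (⟨_, hdc⟩ : SL) ∈ J₀ := by
    show Matrix.SpecialLinearGroup.toGL _ ∈ J
    convert mul_mem (mul_mem (mul_mem hh hδ) (inv_mem hh)) (inv_mem hδ) using 1
    exact Units.ext rfl
  have h1 : (h * δ * h⁻¹ * δ⁻¹ : GL2) = 1 :=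
    Units.ext (congrArg Subtype.val (congrArg Subtype.val (htriv ⟨_, hm⟩)))
  have hcd : h * δ = δ * h := mul_inv_eq_iff_eq_mul.1 (mul_inv_eq_one.1 h1)
  have he := congrFun (congrFun (show ((h * δ : GL2) : Matrix (Fin 2) (Fin 2) F) = ((δ * h : GL2) :
    Matrix (Fin 2) (Fin 2) F) by rw [hcd]) 1) 0
  simp only [Units.val_mul, Matrix.mul_apply, Fin.sum_univ_two, hδ10, hJ δ hδ hδ10] at he
  have : ((δ : Matrix (Fin 2) (Fin 2) F) 1 1 - 1) * (h : Matrix (Fin 2) (Fin 2) F) 1 0 = 0 := by
    linear_combination -he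
  exact (mul_eq_zero.1 this).resolve_left fun h0 => hdet (by
    rw [sub_eq_zero.1 h0, one_pow])

end Cfsg.Agent.Lib.Walter.NoField.SmallPrime
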