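import Cfsg.Agent.Lib.Walter.NoField.SmallPrime.Plane
import Cfsg.Agent.Lib.Resistant67.Basic
import Cfsg.Agent.Lib.PGroups.Frattini

/-!
# Section Z, small primes: the `l`-subgroups over `P = ⟨x⟩ × ⟨w⟩`

`x` of prime order `l`, conjugate to no other power of itself, `P = ⟨x, w⟩` self-centralising and a
Sylow `l`-subgroup of `C(x)`.  An `l`-group `D ≥ P` has `|D : D'| = l²`, every coset `xⁱ D'`
(`l ∤ i`) is a class of `D`, and `N(D)` acts on `D / D'` with a kernel which is an `l`-group.

Owner: helper87.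
-/

set_option autoImplicit false
set_option linter.style.haveILetI false
set_option linter.unusedSectionVars false

universe u

namespace Cfsg.Agent.Lib.Walter.NoField.SmallPrime

open Subgroup
open scoped commutatorElement

variable {G : Type u} [Group G]

/-- The hypotheses. -/
structure Base (x w : G) (l : ℕ) : Prop where
  ne_two : l ≠ 2
  ordx : orderOf x = l
  ordw : orderOf w = l
  comm : Commute w x
  not_mem : w ∉ zpowers x
  not_cube : ¬ l ^ 3 ∣ Nat.card ↥(centralizer ({x} : Set G))
  cent : ∀ g : G, Commute g x → Commute g w → g ∈ zpowers x ⊔ zpowers w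
  norm : ∀ g : G, g * x * g⁻¹ ∈ zpowers x → g * x * g⁻¹ = x

namespace Base

variable [Finite G] {x w : G} {l : ℕ} [Fact l.Prime] (B : Base x w l)
include B

theorem pow_P {g : G} (hg : g ∈ zpowers x ⊔ zpowers w) : g ^ l = 1 ∧ Commute g x := by
  rw [Subgroup.sup_eq_closure] at hg
  suffices h : g ^ l = 1 ∧ Commute g x ∧ Commute g w from ⟨h.1, h.2.1⟩
  induction hg using Subgroup.closure_induction with
  | mem y hy =>
    rcases hy with hy | hy <;> obtain ⟨i, rfl⟩ := mem_zpowers_iff.1 hy
    · refine ⟨?_, (Commute.refl x).zpow_left i, B.comm.symm.zpow_left i⟩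
      rw [← zpow_natCast, ← zpow_mul, mul_comm, zpow_mul, zpow_natCast, ← B.ordx,
        pow_orderOf_eq_one, one_zpow]
    · refine ⟨?_, B.comm.zpow_left i, (Commute.refl w).zpow_left i⟩
      rw [← zpow_natCast, ← zpow_mul, mul_comm, zpow_mul, zpow_natCast, ← B.ordw,
        pow_orderOf_eq_one, one_zpow]
  | one => exact ⟨one_pow l, Commute.one_left x, Commute.one_left w⟩
  | mul a b ha' hb' iha ihb =>
    refine ⟨?_, iha.2.1.mul_left ihb.2.1, iha.2.2.mul_left ihb.2.2⟩
    have hab : Commute a b := by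
      have hc : ∀ z ∈ closure ((zpowers x : Set G) ∪ (zpowers w : Set G)), Commute a z := fun z hz => by
        induction hz using Subgroup.closure_induction with
        | mem y hy =>
          rcases hy with hy | hy <;> obtain ⟨i, rfl⟩ := mem_zpowers_iff.1 hy
          exacts [iha.2.1.zpow_right i, iha.2.2.zpow_right i]
        | one => exact Commute.one_right a
        | mul p q _ _ hp hq => exact hp.mul_right hq
        | inv p _ hp => exact hp.inv_right
      exact hc b hb'
    rw [hab.mul_pow, iha.1, ihb.1, one_mul]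
  | inv a _ ih => exact ⟨by rw [inv_pow, ih.1, inv_one], ih.2.1.inv_left, ih.2.2.inv_left⟩

theorem P_le : zpowers x ⊔ zpowers w ≤ centralizer ({x} : Set G) := fun _ hg =>
  mem_centralizer_singleton_iff.2 (B.pow_P hg).2.eq

theorem isPGroup_P : IsPGroup l ↥(zpowers x ⊔ zpowers w : Subgroup G) := fun g =>
  ⟨1, Subtype.ext (by rw [pow_one, coe_pow]; exact (B.pow_P g.2).1)⟩

theorem card_le {Q : Subgroup G} (hQ : IsPGroup l ↥Q) (hQC : Q ≤ centralizer ({x} : Set G)) :
    Nat.card ↥Q ≤ l ^ 2 := by
  obtain ⟨k, hk⟩ := IsPGroup.iff_card.1 hQ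
  rw [hk]
  refine Nat.pow_le_pow_right (Fact.out : l.Prime).pos ?_
  by_contra h
  exact B.not_cube ((pow_dvd_pow l (show 3 ≤ k by omega)).trans (hk ▸ card_dvd_of_le hQC))

theorem card_P : Nat.card ↥(zpowers x ⊔ zpowers w : Subgroup G) = l ^ 2 := by
  refine le_antisymm (B.card_le B.isPGroup_P B.P_le) ?_
  obtain ⟨k, hk⟩ := IsPGroup.iff_card.1 B.isPGroup_P
  rw [hk]
  refine Nat.pow_le_pow_right (Fact.out : l.Prime).pos ?_
  by_contra h
  have h1 : Nat.card ↥(zpowers x ⊔ zpowers w : Subgroup G) ≤ Nat.card ↥(zpowers x) := by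
    rw [hk, Nat.card_zpowers, B.ordx]
    calc l ^ k ≤ l ^ 1 := Nat.pow_le_pow_right (Fact.out : l.Prime).pos (by omega)
      _ = l := pow_one l
  exact B.not_mem ((Subgroup.eq_of_le_of_card_ge le_sup_left h1).symm ▸ mem_sup_right (mem_zpowers w))

/-- `C_D(x) = P`. -/
theorem inf_eq {D : Subgroup G} (hD : IsPGroup l ↥D) (hPD : zpowers x ⊔ zpowers w ≤ D) :
    D ⊓ centralizer ({x} : Set G) = zpowers x ⊔ zpowers w :=
  (eq_of_le_of_card_ge (le_inf hPD B.P_le) (B.card_P ▸ B.card_le hD.to_inf_left inf_le_right)).symm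

theorem not_cyclic {D : Subgroup G} (hPD : zpowers x ⊔ zpowers w ≤ D) : ¬ IsCyclic ↥D := by
  intro h
  haveI : IsCyclic ↥(zpowers x ⊔ zpowers w : Subgroup G) :=
    isCyclic_of_injective (Subgroup.inclusion hPD) (Subgroup.inclusion_injective hPD)
  obtain ⟨g, hg⟩ := IsCyclic.exists_generator (α := ↥(zpowers x ⊔ zpowers w : Subgroup G))
  have h1 := orderOf_eq_card_of_forall_mem_zpowers hg
  have h2 : orderOf g ∣ l := orderOf_dvd_of_pow_eq_one (Subtype.ext (B.pow_P g.2).1)
  rw [h1, B.card_P] at h2
  have h3 := Nat.le_of_dvd (Fact.out : l.Prime).pos h2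
  have h4 := (Fact.out : l.Prime).two_le
  nlinarith

theorem self_mem_zpowers {m : ℕ} (hm : ¬ l ∣ m) : x ∈ zpowers (x ^ m) :=
  mem_zpowers_pow_iff.2 (by rw [B.ordx]; exact ((Fact.out : l.Prime).coprime_iff_not_dvd.2 hm).symm)

theorem centralizer_pow {m : ℕ} (hm : ¬ l ∣ m) {g : G} (h : Commute g (x ^ m)) : Commute g x := by
  obtain ⟨i, hi⟩ := mem_zpowers_iff.1 (B.self_mem_zpowers hm)
  rw [← hi]
  exact h.zpow_right i

/-- A cyclic quotient by the derived subgroup makes a `p`-group cyclic. -/
theorem cyclic_of_abelianization {D : Type u} [Group D] [Finite D] (hD : IsPGroup l D)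
    (h : IsCyclic (Abelianization D)) : IsCyclic D := by
  obtain ⟨a, ha⟩ := IsCyclic.exists_generator (α := Abelianization D)
  obtain ⟨g, rfl⟩ := QuotientGroup.mk_surjective a
  refine ⟨⟨g, fun z => ?_⟩⟩
  have htop : zpowers g = ⊤ := by
    refine frattini_nongenerating (eq_top_iff.2 fun y _ => ?_)
    obtain ⟨i, hi⟩ := mem_zpowers_iff.1 (ha (Abelianization.of y))
    have hmem : (g ^ i)⁻¹ * y ∈ commutator D := by
      rw [← Abelianization.ker_of D, MonoidHom.mem_ker, map_mul, map_inv, map_zpow, inv_mul_eq_one]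
      exact hi
    rw [show y = g ^ i * ((g ^ i)⁻¹ * y) by group]
    exact mul_mem_sup (zpow_mem (mem_zpowers g) i) (PGroups.commutator_le_frattini hD hmem)
  exact mem_zpowers_iff.1 (htop.symm ▸ mem_top z)

/-- The classes of powers of `x` in an `l`-group over `P`, and the order of `D / D'`. -/
theorem classes {D : Subgroup G} (hD : IsPGroup l ↥D) (hPD : zpowers x ⊔ zpowers w ≤ D) :
    Nat.card (Abelianization ↥D) = l ^ 2 ∧
      ∀ (m : ℕ), ¬ l ∣ m → ∀ z : ↥D, z ∈ commutator ↥D →
        ∃ g : ↥D, (g : G) * x ^ m * (g : G)⁻¹ = x ^ m * z := by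
  classical
  have hxD : x ∈ D := hPD (mem_sup_left (mem_zpowers x))
  have hA2 : l ^ 2 ≤ Nat.card (Abelianization ↥D) := by
    have hAp : IsPGroup l (Abelianization ↥D) := hD.to_quotient (commutator ↥D)
    obtain ⟨k, hk⟩ := IsPGroup.iff_card.1 hAp
    rw [hk]
    refine Nat.pow_le_pow_right (Fact.out : l.Prime).pos ?_
    by_contra h
    refine B.not_cyclic hPD (B.cyclic_of_abelianization hD ?_)
    interval_cases k
    · haveI : Subsingleton (Abelianization ↥D) := (Nat.card_eq_one_iff_unique.1 (by simpa using hk)).1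
      exact isCyclic_of_subsingleton
    · exact isCyclic_of_prime_card (p := l) (by simpa using hk)
  have hDcard : Nat.card (Abelianization ↥D) * Nat.card ↥(commutator ↥D) = Nat.card ↥D :=
    (card_eq_card_quotient_mul_card_subgroup (commutator ↥D)).symm
  have main : ∀ m : ℕ, ¬ l ∣ m → Nat.card (Abelianization ↥D) = l ^ 2 ∧
      ∀ z : ↥D, z ∈ commutator ↥D → ∃ g : ↥D, (g : G) * x ^ m * (g : G)⁻¹ = x ^ m * z := by
    intro m hm
    set y : ↥D := ⟨x ^ m, pow_mem hxD m⟩ with hy
    set C := centralizer ({y} : Set ↥D) with hC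
    have hCcard : Nat.card ↥C = l ^ 2 := by
      have he : C = (zpowers x ⊔ zpowers w).subgroupOf D := by
        ext z
        rw [mem_subgroupOf, ← B.inf_eq hD hPD, mem_inf, hC, mem_centralizer_singleton_iff]
        constructor
        · intro h
          exact ⟨z.2, mem_centralizer_singleton_iff.2
            (B.centralizer_pow hm (congrArg Subtype.val h)).eq⟩
        · rintro ⟨-, h⟩
          exact Subtype.ext ((show Commute (z : G) x from mem_centralizer_singleton_iff.1 h).pow_right m).eq
      rw [he, Nat.card_congr (subgroupOfEquivOfLe hPD).toEquiv, B.card_P]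
    let f : ↥D ⧸ C → ↥(commutator ↥D) := Quotient.lift
      (fun g => ⟨y⁻¹ * (g * y * g⁻¹), by
        rw [show y⁻¹ * (g * y * g⁻¹) = ⁅y⁻¹, g⁆ by rw [commutatorElement_def, inv_inv]; group]
        exact commutator_mem_commutator (mem_top _) (mem_top _)⟩)
      (fun g g' hg => by
        have hc : g⁻¹ * g' ∈ C := QuotientGroup.leftRel_apply.1 hg
        rw [hC, mem_centralizer_singleton_iff] at hc
        refine Subtype.ext (congrArg (y⁻¹ * ·) ?_)
        calc g * y * g⁻¹ = g * (y * (g⁻¹ * g')) * g'⁻¹ := by group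
          _ = g * ((g⁻¹ * g') * y) * g'⁻¹ := by rw [hc]
          _ = g' * y * g'⁻¹ := by group)
    have hf : Function.Injective f := by
      intro a b
      induction a using QuotientGroup.induction_on with
      | _ g =>
        induction b using QuotientGroup.induction_on with
        | _ g' =>
          intro h
          have h' : g * y * g⁻¹ = g' * y * g'⁻¹ := mul_left_cancel (congrArg Subtype.val h)
          refine QuotientGroup.eq.2 ?_
          rw [hC, mem_centralizer_singleton_iff]
          calc g⁻¹ * g' * y = g⁻¹ * (g' * y * g'⁻¹) * g' := by group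
            _ = g⁻¹ * (g * y * g⁻¹) * g' := by rw [h']
            _ = y * (g⁻¹ * g') := by group
    have hle := Nat.card_le_card_of_injective f hf
    have h1 : Nat.card (↥D ⧸ C) * l ^ 2 = Nat.card ↥D := by
      rw [← hCcard]; exact (card_eq_card_quotient_mul_card_subgroup C).symm
    have hpos : 0 < Nat.card ↥(commutator ↥D) := Nat.card_pos
    have hl2 : 0 < l ^ 2 := pow_pos (Fact.out : l.Prime).pos 2
    have hA : Nat.card (Abelianization ↥D) = l ^ 2 := by
      refine le_antisymm ?_ hA2
      refine Nat.le_of_mul_le_mul_right ?_ hpos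
      rw [hDcard, ← h1, mul_comm (l ^ 2)]
      exact Nat.mul_le_mul_right _ hle
    refine ⟨hA, fun z hz => ?_⟩
    have heq : Nat.card (↥D ⧸ C) = Nat.card ↥(commutator ↥D) := by
      refine Nat.eq_of_mul_eq_mul_right hl2 ?_
      rw [h1, ← hDcard, hA, mul_comm]
    obtain ⟨q, hq⟩ := ((Nat.bijective_iff_injective_and_card f).2 ⟨hf, heq⟩).2 ⟨z, hz⟩
    induction q using QuotientGroup.induction_on with
    | _ g =>
      refine ⟨g, ?_⟩
      have h2 : y⁻¹ * (g * y * g⁻¹) = z := congrArg Subtype.val hq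
      rw [inv_mul_eq_iff_eq_mul] at h2
      exact congrArg Subtype.val h2
  have h1l : ¬ l ∣ 1 := fun h => (Fact.out : l.Prime).one_lt.ne' (Nat.dvd_one.1 h)
  exact ⟨(main 1 h1l).1, fun m hm => (main m hm).2⟩

/-- The action of `N(D)` on `D / D'`, in coordinates with `x` the first basis vector. -/
theorem exists_rho {D : Subgroup G} (hD : IsPGroup l ↥D) (hPD : zpowers x ⊔ zpowers w ≤ D) :
    ∃ ρ : ↥(normalizer (D : Set G)) →* GL (Fin 2) (ZMod l),
      IsPGroup l ↥ρ.ker ∧ NoScalar ρ.range ∧
      (∀ h : ↥(normalizer (D : Set G)), (h : G) ∈ D → ρ h = 1) ∧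
      (∀ h : ↥(normalizer (D : Set G)), Commute (h : G) x →
        (ρ h : Matrix (Fin 2) (Fin 2) (ZMod l)) 1 0 = 0) ∧
      ∀ h : ↥(normalizer (D : Set G)), (ρ h : Matrix (Fin 2) (Fin 2) (ZMod l)) 1 0 = 0 →
        ∀ y : ↥D, (y : G) = (h : G) * x * (h : G)⁻¹ →
          Abelianization.of y = Abelianization.of (⟨x, hPD (mem_sup_left (mem_zpowers x))⟩ : ↥D) := by
  classical
  have hlp : l.Prime := Fact.out
  obtain ⟨hA, hcl⟩ := B.classes hD hPD
  have hxD : x ∈ D := hPD (mem_sup_left (mem_zpowers x))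
  set x' : ↥D := ⟨x, hxD⟩ with hx'
  set N := normalizer (D : Set G) with hN
  haveI : Finite (Abelianization ↥D) := Nat.finite_of_card_ne_zero (by rw [hA]; exact pow_ne_zero _ hlp.ne_zero)
  have hexp : ∀ a : (Abelianization ↥D), a ^ l = 1 := by
    intro a
    obtain ⟨k, hk, hko⟩ := (Nat.dvd_prime_pow hlp).1 (hA ▸ orderOf_dvd_natCard a)
    refine orderOf_dvd_iff_pow_eq_one.1 ?_
    rw [hko]
    rcases (show k ≤ 1 ∨ k = 2 by omega) with hk1 | hk2
    · exact (pow_dvd_pow l hk1).trans (pow_one l).dvd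
    · exact absurd (B.cyclic_of_abelianization hD
        (isCyclic_of_orderOf_eq_card a (by rw [hko, hk2, hA]))) (B.not_cyclic hPD)
  haveI : Module (ZMod l) (Additive (Abelianization ↥D)) := AddCommGroup.zmodModule (n := l) fun v => by
    exact congrArg Additive.ofMul (hexp v.toMul)
  have hval : ∀ (c : ZMod l) (v : Additive (Abelianization ↥D)), c • v = c.val • v := fun c v => by
    rw [← Nat.cast_smul_eq_nsmul (ZMod l), ZMod.natCast_rightInverse c]
  set a : Additive (Abelianization ↥D) := Additive.ofMul (Abelianization.of x') with hadef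
  have ha0 : a ≠ 0 := by
    intro h
    have h1 : x' ∈ commutator ↥D := by
      rw [← Abelianization.ker_of, MonoidHom.mem_ker]
      exact Additive.ofMul.injective h
    obtain ⟨g, hg⟩ := hcl 1 (fun h => hlp.one_lt.ne' (Nat.dvd_one.1 h)) x'⁻¹ (inv_mem h1)
    rw [pow_one] at hg
    have h2 : (g : G) * x * (g : G)⁻¹ = 1 := hg.trans (mul_inv_cancel x)
    rw [conj_eq_one_iff] at h2
    have h3 := B.ordx
    rw [h2, orderOf_one] at h3
    exact hlp.one_lt.ne h3
  obtain ⟨b, hb⟩ : ∃ b : Additive (Abelianization ↥D), ∀ c : ZMod l, b ≠ c • a := by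
    by_contra h
    push Not at h
    have hs : Function.Surjective (fun c : ZMod l => c • a) := fun v => (h v).imp fun c hc => hc.symm
    have h1 := Nat.card_le_card_of_surjective _ hs
    rw [Nat.card_zmod] at h1
    have h2 : Nat.card (Additive (Abelianization ↥D)) = l ^ 2 := (Nat.card_congr Additive.toMul).trans hA
    have := hlp.two_le
    nlinarith
  let f : (Fin 2 → ZMod l) →ₗ[ZMod l] Additive (Abelianization ↥D) :=
    { toFun := fun v => v 0 • a + v 1 • b
      map_add' := fun v v' => by
        simp only [Pi.add_apply, add_smul]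
        abel
      map_smul' := fun c v => by
        simp only [Pi.smul_apply, smul_eq_mul, mul_smul, RingHom.id_apply, smul_add] }
  have hf : ∀ v, f v = v 0 • a + v 1 • b := fun v => rfl
  have hfinj : Function.Injective f := by
    refine (injective_iff_map_eq_zero f).2 fun v hv => ?_
    rw [hf] at hv
    have h1 : v 1 = 0 := by
      by_contra h1
      refine hb (-((v 1)⁻¹ * v 0)) ?_
      have : (v 1)⁻¹ • (v 0 • a + v 1 • b) = 0 := by rw [hv, smul_zero]
      rw [smul_add, smul_smul, smul_smul, inv_mul_cancel₀ h1, one_smul] at this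
      rw [neg_smul]
      exact eq_neg_of_add_eq_zero_right this
    rw [h1, zero_smul, add_zero, smul_eq_zero] at hv
    ext i
    fin_cases i
    exacts [hv.resolve_right ha0, h1]
  have hfbij : Function.Bijective f := (Nat.bijective_iff_injective_and_card f).2 ⟨hfinj, by
    rw [Nat.card_congr Additive.toMul, hA, Nat.card_fun, Nat.card_zmod, Nat.card_fin]⟩
  let e : (Fin 2 → ZMod l) ≃ₗ[ZMod l] Additive (Abelianization ↥D) := LinearEquiv.ofBijective f hfbij
  -- the action
  let θ : ↥N → ((Abelianization ↥D) →* (Abelianization ↥D)) := fun h =>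
    Abelianization.map (Subgroup.normalizerMonoidHom D h).toMonoidHom
  have hθ : ∀ (h : ↥N) (y : ↥D),
      θ h (Abelianization.of y) = Abelianization.of (Subgroup.normalizerMonoidHom D h y) :=
    fun h y => Abelianization.map_of _ y
  have hθ1 : ∀ z : (Abelianization ↥D), θ 1 z = z := by
    intro z
    obtain ⟨y, rfl⟩ := QuotientGroup.mk_surjective z
    exact (hθ 1 y).trans (by rw [map_one]; rfl)
  have hθm : ∀ (h h' : ↥N) (z : (Abelianization ↥D)), θ (h * h') z = θ h (θ h' z) := by
    intro h h' z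
    obtain ⟨y, rfl⟩ := QuotientGroup.mk_surjective z
    show θ (h * h') (Abelianization.of y) = θ h (θ h' (Abelianization.of y))
    rw [hθ, hθ, hθ, map_mul]
    rfl
  let T : ↥N → Module.End (ZMod l) (Fin 2 → ZMod l) := fun h =>
    e.symm.toLinearMap ∘ₗ ((θ h).toAdditive.toZModLinearMap l) ∘ₗ e.toLinearMap
  have hT : ∀ h v, T h v = e.symm (Additive.ofMul (θ h (e v).toMul)) := fun _ _ => rfl
  let Th : ↥N →* Module.End (ZMod l) (Fin 2 → ZMod l) :=
    { toFun := T
      map_one' := LinearMap.ext fun v => by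
        rw [hT, hθ1, ofMul_toMul, LinearEquiv.symm_apply_apply]
        rfl
      map_mul' := fun h h' => LinearMap.ext fun v => by
        rw [Module.End.mul_apply, hT, hT, hT, hθm, LinearEquiv.apply_symm_apply, toMul_ofMul] }
  let ρ : ↥N →* GL (Fin 2) (ZMod l) :=
    (((LinearMap.toMatrixAlgEquiv' (R := ZMod l) (n := Fin 2)).toAlgHom :
      Module.End (ZMod l) (Fin 2 → ZMod l) →* Matrix (Fin 2) (Fin 2) (ZMod l)).comp Th).toHomUnits
  have hρ : ∀ h, (ρ h : Matrix (Fin 2) (Fin 2) (ZMod l)) = LinearMap.toMatrixAlgEquiv' (T h) :=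
    fun h => rfl
  have hentry : ∀ h i, (ρ h : Matrix (Fin 2) (Fin 2) (ZMod l)) i 0 =
      e.symm (Additive.ofMul (θ h (Abelianization.of x'))) i := by
    intro h i
    have he : e (Pi.single 0 1) = a := by
      show f _ = a
      rw [hf]
      simp
    rw [hρ, LinearMap.toMatrixAlgEquiv'_apply, hT, he]
    rfl
  have hid : ∀ h, ρ h = 1 → ∀ z : (Abelianization ↥D), θ h z = z := by
    intro h hh z
    have h1 : T h = 1 := by
      refine (LinearMap.toMatrixAlgEquiv' (R := ZMod l) (n := Fin 2)).injective ?_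
      rw [← hρ, hh, map_one, Units.val_one]
    have h2 := LinearMap.congr_fun h1 (e.symm (Additive.ofMul z))
    rw [hT, LinearEquiv.apply_symm_apply, toMul_ofMul, Module.End.one_apply] at h2
    exact Additive.ofMul.injective (e.symm.injective h2)
  -- a multiple of `x` is `x`
  have hline : ∀ h : ↥N, (ρ h : Matrix (Fin 2) (Fin 2) (ZMod l)) 1 0 = 0 →
      (ρ h : Matrix (Fin 2) (Fin 2) (ZMod l)) 0 0 = 1 := by
    intro h h10
    set c := (ρ h : Matrix (Fin 2) (Fin 2) (ZMod l)) 0 0 with hc
    have hv : e.symm (Additive.ofMul (θ h (Abelianization.of x'))) = fun i => if i = 0 then c else 0 := by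
      funext i
      fin_cases i
      · exact (hentry h 0).symm
      · exact (hentry h 1).symm.trans h10
    rw [LinearEquiv.symm_apply_eq] at hv
    have hv' : θ h (Abelianization.of x') = Abelianization.of (x' ^ c.val) := by
      have e1 : e (fun i => if i = 0 then c else 0) = c • a := by
        show f _ = _
        rw [hf]
        simp
      rw [e1, hval, hadef, ← ofMul_pow, ← map_pow] at hv
      exact Additive.ofMul.injective hv
    rw [hθ] at hv'
    have hc0 : c.val ≠ 0 := fun h0 => by
      rw [h0, pow_zero, map_one] at hv'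
      have : (θ h⁻¹) (θ h (Abelianization.of x')) = Abelianization.of x' := by
        rw [← hθm, inv_mul_cancel, hθ1]
      rw [hθ h x', hv', map_one] at this
      exact ha0 (congrArg Additive.ofMul this.symm)
    have hml : ¬ l ∣ c.val := fun hd =>
      hc0 (Nat.eq_zero_of_dvd_of_lt hd (ZMod.val_lt c))
    have hz : (x' ^ c.val)⁻¹ * Subgroup.normalizerMonoidHom D h x' ∈ commutator ↥D := by
      rw [← Abelianization.ker_of, MonoidHom.mem_ker, map_mul, map_inv, inv_mul_eq_one]
      exact hv'.symm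
    obtain ⟨g, hg⟩ := hcl c.val hml _ hz
    have hg' : (g : G) * x ^ c.val * (g : G)⁻¹ = (h : G) * x * (h : G)⁻¹ := by
      rw [hg, Subgroup.coe_mul, Subgroup.coe_inv, SubgroupClass.coe_pow, mul_inv_cancel_left]
      rfl
    have hconj : (g : G)⁻¹ * h * x * ((g : G)⁻¹ * h)⁻¹ = x ^ c.val := by
      calc (g : G)⁻¹ * h * x * ((g : G)⁻¹ * h)⁻¹ = (g : G)⁻¹ * ((h : G) * x * (h : G)⁻¹) * g := by group
        _ = (g : G)⁻¹ * ((g : G) * x ^ c.val * (g : G)⁻¹) * g := by rw [hg']
        _ = x ^ c.val := by group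
    have := B.norm _ (hconj ▸ pow_mem (mem_zpowers x) c.val)
    rw [hconj] at this
    have hx1 : x ^ c.val = x ^ 1 := this.trans (pow_one x).symm
    rw [pow_eq_pow_iff_modEq, B.ordx] at hx1
    rw [← ZMod.natCast_rightInverse c, ← Nat.cast_one]
    exact (ZMod.natCast_eq_natCast_iff _ _ _).2 hx1
  refine ⟨ρ, ?_, ?_, ?_, ?_, ?_⟩
  · -- the kernel
    intro g
    obtain ⟨k, m, hm, hgm⟩ := Nat.exists_eq_pow_mul_and_not_dvd (orderOf_pos g).ne' l hlp.ne_one
    refine ⟨k, ?_⟩
    set h := g ^ l ^ k with hh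
    have hord : orderOf h ∣ m := orderOf_dvd_of_pow_eq_one (by
      rw [hh, ← pow_mul, ← hgm, pow_orderOf_eq_one])
    have hcop : (orderOf h).Coprime l :=
      Nat.Coprime.coprime_dvd_left hord ((hlp.coprime_iff_not_dvd.2 hm).symm)
    have hσ : Subgroup.normalizerMonoidHom D (h : ↥N) = 1 := by
      refine Resistant67.eq_one_of_trivial_frattini hD ?_ fun y => ?_
      · exact Nat.Coprime.coprime_dvd_left
          ((orderOf_map_dvd _ (h : ↥N)).trans (Subgroup.orderOf_coe h).dvd) hcop
      · refine PGroups.commutator_le_frattini hD ?_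
        rw [← Abelianization.ker_of, MonoidHom.mem_ker, map_mul, map_inv, inv_mul_eq_one]
        have := hid (h : ↥N) h.2 (Abelianization.of y)
        rw [hθ] at this
        exact this.symm
    have hfix : ∀ y ∈ D, Commute ((h : ↥N) : G) y := fun y hy => by
      have := congrArg Subtype.val (MulEquiv.congr_fun hσ ⟨y, hy⟩)
      exact mul_inv_eq_iff_eq_mul.1 this
    have hP := B.cent _ (hfix x hxD) (hfix w (hPD (mem_sup_right (mem_zpowers w))))
    have h1 : orderOf h ∣ l := by
      rw [← Subgroup.orderOf_coe h, ← Subgroup.orderOf_coe]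
      exact orderOf_dvd_of_pow_eq_one (B.pow_P hP).1
    exact orderOf_eq_one_iff.1 (Nat.eq_one_of_dvd_coprimes hcop dvd_rfl h1)
  · rintro _ ⟨h, rfl⟩ h10
    exact hline h h10
  · intro h hh
    refine Units.ext ?_
    rw [hρ, Units.val_one]
    have : T h = 1 := LinearMap.ext fun v => by
      rw [hT, Module.End.one_apply]
      obtain ⟨y, hy⟩ := QuotientGroup.mk_surjective (e v).toMul
      have hθy : θ h (e v).toMul = (e v).toMul := by
        rw [← hy]
        show θ h (Abelianization.of y) = Abelianization.of y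
        rw [hθ]
        have : Subgroup.normalizerMonoidHom D h y = ⟨h, hh⟩ * y * (⟨h, hh⟩ : ↥D)⁻¹ := Subtype.ext rfl
        rw [this, map_mul, map_mul, map_inv, mul_right_comm, mul_inv_cancel, one_mul]
      rw [hθy, ofMul_toMul, LinearEquiv.symm_apply_apply]
    rw [this, map_one]
  · intro h hc
    rw [hentry]
    have hfix : Subgroup.normalizerMonoidHom D h x' = x' := Subtype.ext (by
      show (h : G) * x * (h : G)⁻¹ = x
      rw [hc.eq, mul_inv_cancel_right])
    rw [hθ, hfix]
    have he : e.symm a = fun i => if i = 0 then (1 : ZMod l) else 0 := by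
      rw [LinearEquiv.symm_apply_eq]
      show a = f _
      rw [hf]
      simp
    rw [← hadef, he]
    rfl
  · intro h h10 y hy
    have h00 := hline h h10
    have hv : e.symm (Additive.ofMul (θ h (Abelianization.of x'))) =
        fun i => if i = 0 then 1 else 0 := by
      funext i
      fin_cases i
      · exact (hentry h 0).symm.trans h00
      · exact (hentry h 1).symm.trans h10
    rw [LinearEquiv.symm_apply_eq] at hv
    have e1 : e (fun i => if i = 0 then 1 else 0) = a := by
      show f _ = _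
      rw [hf]
      simp
    rw [e1, hθ] at hv
    have : y = Subgroup.normalizerMonoidHom D h x' := Subtype.ext hy
    rw [this]
    exact Additive.ofMul.injective hv

end Base

end Cfsg.Agent.Lib.Walter.NoField.SmallPrime
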