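import Cfsg.Agent.Lib.Walter.NoField.SmallPrime.Quot

/-!
# Section Z, small primes: the image `H` of `N(S)` in `C(x)/⟨x⟩`

`H` has order 168, is the normaliser of the image `T` of `S`, `T` is its own centraliser, and no
element of order 3 of `H` commutes with one of order 7 commuting with no involution.

Owner: helper87.
-/

set_option autoImplicit false
set_option linter.style.haveILetI false
set_option linter.unusedSectionVars false

universe u

namespace Cfsg.Agent.Lib.Walter.NoField.SmallPrime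

open Subgroup JRCore

namespace Data

variable {G : Type u} [Group G] [Finite G] {S : Sylow 2 G} {t : G} {E E₀ : Subgroup G} {x : G}
  {l : ℕ} [Fact l.Prime] (D : Data S t E E₀ x l)
include D

/-- The image of `N(S)`. -/
abbrev Hb (_D : Data S t E E₀ x l) : Subgroup (Quo (centralizer ({x} : Set G))) :=
  ((normalizer ((S : Subgroup G) : Set G)).subgroupOf (centralizer ({x} : Set G))).map (qm _)

/-- The image of `S`. -/
noncomputable abbrev Tb (D : Data S t E E₀ x l) : Subgroup (Quo (centralizer ({x} : Set G))) :=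
  (quoSylow D.le_cent : Subgroup (Quo (centralizer ({x} : Set G))))

theorem card_centralizer_sylow :
    Nat.card ↥(centralizer ((S : Subgroup G) : Set G)) = 8 * l := by
  have C := D.ctx
  have hFx : fieldPart S = zpowers x := le_antisymm D.gen (zpowers_le.2 D.mem)
  have hmem : ∀ (f s : G), f ∈ fieldPart S → s ∈ (S : Subgroup G) →
      f * s ∈ centralizer ((S : Subgroup G) : Set G) := fun f s hf hs =>
    mul_mem (fieldPart_le_centralizer S hf)
      (mem_centralizer_iff.2 fun y hy => C.comm hy hs)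
  let φ : ↥(fieldPart S) × ↥(S : Subgroup G) → ↥(centralizer ((S : Subgroup G) : Set G)) :=
    fun p => ⟨p.1 * p.2, hmem _ _ p.1.2 p.2.2⟩
  have hφ : Function.Bijective φ := by
    constructor
    · rintro ⟨⟨f, hf⟩, ⟨s, hs⟩⟩ ⟨⟨f', hf'⟩, ⟨s', hs'⟩⟩ h
      have h' : f * s = f' * s' := congrArg Subtype.val h
      have e : f'⁻¹ * f = s' * s⁻¹ := by
        rw [show s' * s⁻¹ = f'⁻¹ * (f' * s') * s⁻¹ by group, ← h']
        group
      have hm : s' * s⁻¹ ∈ (S : Subgroup G) := mul_mem hs' (inv_mem hs)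
      have h1 : f'⁻¹ * f = 1 := JRBal.eq_one_of_sq_odd (odd_fieldPart S)
        (mul_mem (inv_mem hf') hf) (by rw [e]; exact C.sq hm)
      rw [inv_mul_eq_one] at h1
      subst h1
      obtain rfl := mul_left_cancel h'
      rfl
    · rintro ⟨g, hg⟩
      obtain ⟨f, hf, s, hs, rfl⟩ := C.exists_mul_fieldPart hg
      exact ⟨(⟨f, hf⟩, ⟨s, hs⟩), rfl⟩
  rw [← Nat.card_congr (Equiv.ofBijective φ hφ), Nat.card_prod, hFx, Nat.card_zpowers, D.ord,
    C.jr.card_sylow S]
  ring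

theorem comap_Hb : D.Hb.comap (qm _) =
    (normalizer ((S : Subgroup G) : Set G)).subgroupOf (centralizer ({x} : Set G)) := by
  refine comap_map_eq_self fun g hg => mem_subgroupOf.2 ?_
  exact (zpowers_le.2 D.x_mem_norm) ((D.qm_eq_one g).1 (MonoidHom.mem_ker.1 hg))

theorem card_Hb : Nat.card ↥D.Hb = 168 := by
  have h := D.card_comap D.Hb
  rw [D.comap_Hb, Nat.card_congr (subgroupOfEquivOfLe D.norm_le).toEquiv] at h
  have h1 := ((centralizer ((S : Subgroup G) : Set G)).subgroupOf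
    (normalizer ((S : Subgroup G) : Set G))).card_mul_index
  rw [Nat.card_congr (subgroupOfEquivOfLe (centralizer_le_normalizer _)).toEquiv,
    D.card_centralizer_sylow] at h1
  have h2 : ((centralizer ((S : Subgroup G) : Set G)).subgroupOf
      (normalizer ((S : Subgroup G) : Set G))).index = 21 := D.ctx.relIndex_centralizer
  rw [h2] at h1
  refine Nat.eq_of_mul_eq_mul_left (Fact.out : l.Prime).pos ?_
  rw [← h, ← h1]
  ring

theorem Tb_le : D.Tb ≤ D.Hb := by
  intro z hz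
  obtain ⟨s, hs, rfl⟩ := (mem_quoSylow D.le_cent).1 hz
  exact mem_map_of_mem _ (mem_subgroupOf.2 (le_normalizer hs))

theorem card_Tb : Nat.card ↥D.Tb = 8 :=
  (eightQuo D.le_cent (fun _ ha => D.ctx.sq ha) (D.ctx.jr.card_sylow S)).card

theorem sq_Tb {z : Quo (centralizer ({x} : Set G))} (hz : z ∈ D.Tb) : z * z = 1 :=
  (eightQuo D.le_cent (fun _ ha => D.ctx.sq ha) (D.ctx.jr.card_sylow S)).sq z hz

theorem tb_mem : D.tb ∈ D.Tb := qm_mem_quoSylow D.le_cent D.ctx.mem

theorem conj_mem_Tb {y z : Quo (centralizer ({x} : Set G))} (hy : y ∈ D.Hb) (hz : z ∈ D.Tb) :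
    y * z * y⁻¹ ∈ D.Tb := by
  obtain ⟨g, hg, rfl⟩ := hy
  obtain ⟨s, hs, rfl⟩ := (mem_quoSylow D.le_cent).1 hz
  refine (mem_quoSylow D.le_cent).2 ⟨g * s * g⁻¹, ?_, by rw [map_mul, map_mul, map_inv]⟩
  exact (mem_normalizer_iff.1 (mem_subgroupOf.1 hg) _).1 hs

/-- `H` is the normaliser of `T`. -/
theorem mem_Hb {y : Quo (centralizer ({x} : Set G))} (hy : ∀ z ∈ D.Tb, y * z * y⁻¹ ∈ D.Tb) :
    y ∈ D.Hb := by
  obtain ⟨g, rfl⟩ := qm_surjective _ y
  refine mem_map_of_mem _ (mem_subgroupOf.2 (mem_normalizer_fintype fun s hs => ?_))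
  obtain ⟨s', hs', he⟩ := (mem_quoSylow D.le_cent).1 (hy _ (qm_mem_quoSylow D.le_cent hs))
  rw [Cent.conj_eq_of_qm D.ctx.jr D.cen D.odd_ord g.2 hs hs' he.symm]
  exact hs'

/-- `T` is its own centraliser. -/
theorem cent_Tb {y : Quo (centralizer ({x} : Set G))} (hy : ∀ z ∈ D.Tb, Commute y z) : y ∈ D.Tb := by
  obtain ⟨g, rfl⟩ := qm_surjective _ y
  have hg : (g : G) ∈ centralizer ((S : Subgroup G) : Set G) := by
    refine mem_centralizer_iff.2 fun s hs => ?_
    exact (mul_inv_eq_iff_eq_mul.1 (Cent.conj_eq_of_qm D.ctx.jr D.cen D.odd_ord g.2 hs hs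
      (mul_inv_eq_iff_eq_mul.2 (hy _ (qm_mem_quoSylow D.le_cent hs)).eq))).symm
  obtain ⟨f, hf, s, hs, he⟩ := D.ctx.exists_mul_fieldPart hg
  have hfx : f ∈ centralizer ({x} : Set G) :=
    (zpowers_le.2 (mem_centralizer_singleton_iff.2 rfl)) (D.gen hf)
  have e : qm _ g = qm _ ⟨s, D.le_cent hs⟩ := by
    rw [show g = ⟨f, hfx⟩ * ⟨s, D.le_cent hs⟩ from Subtype.ext he, map_mul,
      (D.qm_eq_one ⟨f, hfx⟩).2 (D.gen hf), one_mul]
  rw [e]
  exact qm_mem_quoSylow D.le_cent hs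

/-- The non-trivial elements of `T`. -/
abbrev Pts (D : Data S t E E₀ x l) : Type u :=
  {z : Quo (centralizer ({x} : Set G)) // z ∈ D.Tb ∧ z ≠ 1}

theorem card_pts : Nat.card D.Pts = 7 := by
  have e : {z : Quo (centralizer ({x} : Set G)) | z ∈ D.Tb ∧ z ≠ 1} =
      (D.Tb : Set (Quo (centralizer ({x} : Set G)))) \ {1} := rfl
  show Nat.card ↥{z : Quo (centralizer ({x} : Set G)) | z ∈ D.Tb ∧ z ≠ 1} = 7
  rw [Nat.card_coe_set_eq, e, Set.ncard_sdiff_singleton_of_mem (one_mem _), ← Nat.card_coe_set_eq]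
  show Nat.card ↥D.Tb - 1 = 7
  rw [D.card_Tb]

theorem orderOf_pts (v : D.Pts) : orderOf (v : Quo (centralizer ({x} : Set G))) = 2 :=
  orderOf_eq_prime (by rw [pow_two]; exact D.sq_Tb v.2.1) v.2.2

/-- No elements of orders 3 and 7 of `H` commute. -/
theorem not_commute_three {y s : Quo (centralizer ({x} : Set G))}
    (hfree : ∀ v : Quo (centralizer ({x} : Set G)), orderOf v = 2 → ¬ Commute y v)
    (hy : y ∈ D.Hb) (hs : s ∈ D.Hb) (hy7 : orderOf y = 7) (hs3 : orderOf s = 3) :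
    ¬ Commute s y := by
  classical
  intro hc
  haveI := Fintype.ofFinite D.Pts
  haveI : Fact (Nat.Prime 3) := ⟨Nat.prime_three⟩
  let σ : Equiv.Perm D.Pts := (MulAut.conj s).toEquiv.subtypeEquiv fun z => by
    show z ∈ D.Tb ∧ z ≠ 1 ↔ s * z * s⁻¹ ∈ D.Tb ∧ s * z * s⁻¹ ≠ 1
    refine and_congr ⟨D.conj_mem_Tb hs, fun h => ?_⟩ (not_congr conj_eq_one_iff.symm)
    have := D.conj_mem_Tb (inv_mem hs) h
    rwa [show s⁻¹ * (s * z * s⁻¹) * s⁻¹⁻¹ = z by group] at this
  have hσ : σ ^ 3 ^ 1 = 1 := by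
    rw [pow_one]
    refine Equiv.ext fun z => Subtype.ext ?_
    show s * (s * (s * (z : Quo (centralizer ({x} : Set G))) * s⁻¹) * s⁻¹) * s⁻¹ = z
    rw [show s * (s * (s * (z : Quo (centralizer ({x} : Set G))) * s⁻¹) * s⁻¹) * s⁻¹ =
      (s * (s * s)) * z * (s * (s * s))⁻¹ by group, ← pow_two, ← pow_succ',
      show (2 : ℕ) + 1 = orderOf s from hs3.symm, pow_orderOf_eq_one]
    group
  obtain ⟨v, hv⟩ := Equiv.Perm.exists_fixed_point_of_prime
    (by rw [← Nat.card_eq_fintype_card, D.card_pts]; norm_num) hσ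
  have hsv : Commute s (v : Quo (centralizer ({x} : Set G))) :=
    mul_inv_eq_iff_eq_mul.1 (congrArg Subtype.val hv)
  let f : Fin 7 → D.Pts := fun i => ⟨y ^ (i : ℕ) * v * (y ^ (i : ℕ))⁻¹,
    D.conj_mem_Tb (pow_mem hy _) v.2.1, fun h => v.2.2 (conj_eq_one_iff.1 h)⟩
  have hf : Function.Injective f := by
    intro i j h
    have h' : y ^ (i : ℕ) * (v : Quo (centralizer ({x} : Set G))) * (y ^ (i : ℕ))⁻¹ =
        y ^ (j : ℕ) * v * (y ^ (j : ℕ))⁻¹ := congrArg Subtype.val h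
    by_contra hne
    have hne' : (i : ℕ) ≠ (j : ℕ) := fun e => hne (Fin.ext e)
    wlog hij : (i : ℕ) < (j : ℕ) generalizing i j
    · exact this h.symm h'.symm (Ne.symm hne) (Ne.symm hne') (by omega)
    obtain ⟨d, hd⟩ := Nat.exists_eq_add_of_lt hij
    have hcv : Commute (y ^ (d + 1)) (v : Quo (centralizer ({x} : Set G))) := by
      rw [hd, show (i : ℕ) + d + 1 = i + (d + 1) by omega, pow_add] at h'
      refine mul_inv_eq_iff_eq_mul.1 (mul_left_cancel (a := y ^ (i : ℕ)) (mul_right_cancel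
        (b := (y ^ (i : ℕ))⁻¹) ?_))
      rw [h']
      group
    have hmem : y ∈ zpowers (y ^ (d + 1)) := by
      refine mem_zpowers_pow_iff.2 ?_
      rw [hy7]
      refine ((Nat.Prime.coprime_iff_not_dvd (by norm_num)).2 fun h => ?_).symm
      have := Nat.le_of_dvd (by omega) h
      have := j.2
      omega
    obtain ⟨k, hk⟩ := mem_zpowers_iff.1 hmem
    exact hfree _ (D.orderOf_pts v) (hk ▸ hcv.zpow_left k)
  have hsurj := ((Nat.bijective_iff_injective_and_card f).2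
    ⟨hf, by rw [D.card_pts, Nat.card_eq_fintype_card, Fintype.card_fin]⟩).2
  have hmem : s ∈ D.Tb := by
    refine D.cent_Tb fun z hz => ?_
    by_cases hz1 : z = 1
    · rw [hz1]
      exact Commute.one_right s
    obtain ⟨i, hi⟩ := hsurj ⟨z, hz, hz1⟩
    have hi' : y ^ (i : ℕ) * (v : Quo (centralizer ({x} : Set G))) * (y ^ (i : ℕ))⁻¹ = z :=
      congrArg Subtype.val hi
    rw [← hi']
    exact ((hc.pow_right _).mul_right hsv).mul_right (hc.pow_right _).inv_right
  have h2 := orderOf_dvd_of_pow_eq_one (x := s) (n := 2) (by rw [pow_two]; exact D.sq_Tb hmem)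
  rw [hs3] at h2
  exact absurd h2 (by norm_num)

end Data

end Cfsg.Agent.Lib.Walter.NoField.SmallPrime
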