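import Cfsg.Agent.Lib.Walter.NoField.Interface
import Cfsg.Agent.Lib.Walter.NoField.Transfer
import Cfsg.Agent.Lib.Walter.NoField.SectionInduced
import Cfsg.Agent.Lib.Walter.NoField.Inverted

/-!
# Section Z, small primes: `C(x)` modulo `⟨x⟩`

`F = ⟨x⟩` of prime order `l`, `X = C(x)/⟨x⟩`.  All involutions of `X` are conjugate to the image of
`u`, whose centraliser has order `2 |E₀ ∩ C(x)|`; the image of `N(S)` has order 168 and is the
normaliser of the image of `S`.  A subgroup of order `l` of `X` equal to its centraliser whose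
normaliser has order divisible by an odd prime other than `l` gives a contradiction by transfer.

Owner: helper87.
-/

set_option autoImplicit false
set_option linter.style.haveILetI false
set_option linter.unusedSectionVars false

universe u

namespace Cfsg.Agent.Lib.Walter.NoField.SmallPrime

open Subgroup JRCore

/-- `x` generates `F`, of order `l`. -/
structure Data {G : Type u} [Group G] [Finite G] (S : Sylow 2 G) (t : G) (E E₀ : Subgroup G)
    (x : G) (l : ℕ) : Prop where
  ctx : Ctx S t E E₀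
  mem : x ∈ fieldPart S
  ord : orderOf x = l
  gen : fieldPart S ≤ zpowers x

namespace Data

variable {G : Type u} [Group G] [Finite G] {S : Sylow 2 G} {t : G} {E E₀ : Subgroup G} {x : G}
  {l : ℕ} [Fact l.Prime] (D : Data S t E E₀ x l)
include D

theorem cen : x ∈ centralizer ((S : Subgroup G) : Set G) := fieldPart_le_centralizer S D.mem

theorem odd_ord : Odd (orderOf x) := odd_orderOf_mem (odd_fieldPart S) D.mem

theorem ne_two : l ≠ 2 := by
  intro h
  have := D.odd_ord
  rw [D.ord, h] at this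
  exact absurd this (by decide)

theorem ne_one : x ≠ 1 := fun h => by
  have := D.ord
  rw [h, orderOf_one] at this
  exact (Fact.out : l.Prime).one_lt.ne this

theorem le_cent : (S : Subgroup G) ≤ centralizer ({x} : Set G) :=
  Cent.sylow_le_centralizer D.cen

theorem norm_le : normalizer ((S : Subgroup G) : Set G) ≤ centralizer ({x} : Set G) := fun _ hn =>
  mem_centralizer_singleton_iff.2 (D.ctx.comm_normalizer hn D.mem)

theorem x_mem_norm : x ∈ normalizer ((S : Subgroup G) : Set G) :=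
  centralizer_le_normalizer _ D.cen

theorem qm_eq_one (g : ↥(centralizer ({x} : Set G))) : qm _ g = 1 ↔ (g : G) ∈ zpowers x := by
  rw [← Cent.coreIn_centralizer_eq D.ctx.jr D.cen D.odd_ord]
  exact qm_eq_one_iff g.2

theorem card_ker : Nat.card ↥(qm (centralizer ({x} : Set G))).ker = l := by
  have he : (qm (centralizer ({x} : Set G))).ker =
      (zpowers x).subgroupOf (centralizer ({x} : Set G)) := by
    ext g
    rw [MonoidHom.mem_ker, mem_subgroupOf]
    exact D.qm_eq_one g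
  rw [he, Nat.card_congr (subgroupOfEquivOfLe (zpowers_le.2
    (mem_centralizer_singleton_iff.2 rfl))).toEquiv, Nat.card_zpowers, D.ord]

theorem card_cent :
    Nat.card ↥(centralizer ({x} : Set G)) = l * Nat.card (Quo (centralizer ({x} : Set G))) := by
  have h := (qm (centralizer ({x} : Set G))).ker.card_mul_index
  rw [Subgroup.index_ker, MonoidHom.range_eq_top.2 (qm_surjective _), card_top, D.card_ker] at h
  exact h.symm

theorem card_comap (W : Subgroup (Quo (centralizer ({x} : Set G)))) :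
    Nat.card ↥(W.comap (qm _)) = l * Nat.card ↥W := by
  have h1 := (W.comap (qm (centralizer ({x} : Set G)))).card_mul_index
  rw [index_comap_of_surjective W (qm_surjective _), D.card_cent, ← W.card_mul_index,
    ← mul_assoc] at h1
  exact Nat.eq_of_mul_eq_mul_right (Nat.pos_of_ne_zero index_ne_zero_of_finite) h1

/-- `|C(x, u)| = 2 l |E₀ ∩ C(x)|`. -/
theorem card_pair : Nat.card ↥(centralizer ({x, t} : Set G)) =
    2 * l * Nat.card ↥(E₀ ⊓ centralizer ({x} : Set G)) := by
  have C := D.ctx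
  have hFx : fieldPart S = zpowers x := le_antisymm D.gen (zpowers_le.2 D.mem)
  have hmem : ∀ (z e f : G), z ∈ zpowers t → e ∈ E₀ ⊓ centralizer ({x} : Set G) →
      f ∈ fieldPart S → z * e * f ∈ centralizer ({x, t} : Set G) := by
    intro z e f hz he hf
    obtain ⟨i, rfl⟩ := mem_zpowers_iff.1 hz
    refine mem_centralizer_pair.2 ⟨?_, ?_⟩
    · exact (((show Commute t x from (C.comm_u D.mem).symm).zpow_left i).mul_left
        (show Commute e x from mem_centralizer_singleton_iff.1 he.2)).mul_left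
          (show Commute f x from C.comm_fieldPart hf D.mem)
    · exact (((Commute.refl t).zpow_left i).mul_left
        (show Commute e t from C.mem_cent e (C.conf.le he.1))).mul_left
          (show Commute f t from C.comm_u hf)
  let φ : ↥(zpowers t) × ↥(E₀ ⊓ centralizer ({x} : Set G)) × ↥(fieldPart S) →
      ↥(centralizer ({x, t} : Set G)) := fun p =>
    ⟨p.1 * p.2.1 * p.2.2, hmem _ _ _ p.1.2 p.2.1.2 p.2.2.2⟩
  have hφ : Function.Bijective φ := by
    constructor
    · rintro ⟨⟨z, hz⟩, ⟨e, he⟩, ⟨f, hf⟩⟩ ⟨⟨z', hz'⟩, ⟨e', he'⟩, ⟨f', hf'⟩⟩ h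
      have h' : z * e * f = z' * e' * f' := congrArg Subtype.val h
      have hzz : z'⁻¹ * z ∈ zpowers t ⊓ E := by
        refine mem_inf.2 ⟨mul_mem (inv_mem hz') hz, ?_⟩
        rw [show z'⁻¹ * z = z'⁻¹ * (z * e * f) * f⁻¹ * e⁻¹ by group, h',
          show z'⁻¹ * (z' * e' * f') * f⁻¹ * e⁻¹ = e' * f' * f⁻¹ * e⁻¹ by group]
        exact mul_mem (mul_mem (mul_mem (C.conf.le (mem_inf.1 he').1) (C.fieldPart_le hf'))
          (inv_mem (C.fieldPart_le hf))) (inv_mem (C.conf.le (mem_inf.1 he).1))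
      rw [C.cent.1.2.2.2.1, mem_bot, inv_mul_eq_one] at hzz
      subst hzz
      rw [mul_assoc, mul_assoc] at h'
      have h1 : e * f = e' * f' := mul_left_cancel h'
      have hee : e'⁻¹ * e ∈ fieldPart S ⊓ E₀ := by
        refine mem_inf.2 ⟨?_, mul_mem (inv_mem (mem_inf.1 he').1) (mem_inf.1 he).1⟩
        rw [show e'⁻¹ * e = e'⁻¹ * (e * f) * f⁻¹ by group, h1,
          show e'⁻¹ * (e' * f') * f⁻¹ = f' * f⁻¹ by group]
        exact mul_mem hf' (inv_mem hf)
      rw [C.fieldPart_inf, mem_bot, inv_mul_eq_one] at hee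
      subst hee
      obtain rfl := mul_left_cancel h1
      rfl
    · rintro ⟨g, hg⟩
      obtain ⟨hgx, hgt⟩ := mem_centralizer_pair.1 hg
      obtain ⟨e, he, hge⟩ := C.conf.decomp g hgt
      obtain ⟨h, hh, f, hf, rfl⟩ := C.exists_mul he
      have hfx : Commute f x := C.comm_fieldPart hf D.mem
      have htx : Commute t x := (C.comm_u D.mem).symm
      rcases hge with rfl | rfl
      · have hhx : Commute h x := by
          have := (show Commute (h * f) x from hgx).mul_left hfx.inv_left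
          rwa [mul_inv_cancel_right] at this
        exact ⟨(⟨1, one_mem _⟩, ⟨h, hh, mem_centralizer_singleton_iff.2 hhx.eq⟩, ⟨f, hf⟩),
          Subtype.ext (show 1 * h * f = h * f by rw [one_mul])⟩
      · have hhx : Commute h x := by
          have := (htx.inv_left.mul_left (show Commute (t * (h * f)) x from hgx)).mul_left
            hfx.inv_left
          rwa [inv_mul_cancel_left, mul_inv_cancel_right] at this
        exact ⟨(⟨t, mem_zpowers t⟩, ⟨h, hh, mem_centralizer_singleton_iff.2 hhx.eq⟩, ⟨f, hf⟩),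
          Subtype.ext (show t * h * f = t * (h * f) by rw [mul_assoc])⟩
  rw [← Nat.card_congr (Equiv.ofBijective φ hφ), Nat.card_prod, Nat.card_prod, Nat.card_zpowers,
    C.ord, hFx, Nat.card_zpowers, D.ord]
  ring

/-- The image of `u`. -/
abbrev tb (D : Data S t E E₀ x l) : Quo (centralizer ({x} : Set G)) :=
  qm _ ⟨t, D.le_cent D.ctx.mem⟩

theorem orderOf_tb : orderOf D.tb = 2 := by
  refine orderOf_eq_prime ?_ (qm_ne_one D.le_cent D.ctx.mem D.ctx.ne_one)
  rw [← map_pow]
  refine (D.qm_eq_one _).2 ?_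
  show t ^ 2 ∈ zpowers x
  rw [← D.ctx.ord, pow_orderOf_eq_one]
  exact one_mem _

theorem comap_cent_tb : (centralizer ({D.tb} : Set (Quo (centralizer ({x} : Set G))))).comap (qm _) =
    (centralizer ({x, t} : Set G)).subgroupOf (centralizer ({x} : Set G)) := by
  ext g
  rw [mem_comap, mem_centralizer_singleton_iff, mem_subgroupOf, mem_centralizer_pair]
  constructor
  · intro h
    exact ⟨mem_centralizer_singleton_iff.1 g.2, mul_inv_eq_iff_eq_mul.1
      (Cent.conj_eq_of_qm D.ctx.jr D.cen D.odd_ord g.2 D.ctx.mem D.ctx.mem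
        (mul_inv_eq_iff_eq_mul.2 h))⟩
  · rintro ⟨-, h⟩
    rw [tb, ← map_mul, ← map_mul]
    exact congrArg _ (Subtype.ext h)

theorem card_cent_tb : Nat.card ↥(centralizer ({D.tb} : Set (Quo (centralizer ({x} : Set G))))) =
    2 * Nat.card ↥(E₀ ⊓ centralizer ({x} : Set G)) := by
  have h := D.card_comap (centralizer ({D.tb} : Set (Quo (centralizer ({x} : Set G)))))
  rw [D.comap_cent_tb, Nat.card_congr (subgroupOfEquivOfLe (show centralizer ({x, t} : Set G) ≤
    centralizer ({x} : Set G) from centralizer_le (Set.singleton_subset_iff.2 (Set.mem_insert x _)))).toEquiv,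
    D.card_pair] at h
  exact Nat.eq_of_mul_eq_mul_left (Fact.out : l.Prime).pos (h.symm.trans (by ring))

/-- Part A: `l` divides the index of the centraliser of the image of `u`. -/
theorem exists_index : ∃ r, Nat.card (Quo (centralizer ({x} : Set G))) =
    r * (2 * Nat.card ↥(E₀ ⊓ centralizer ({x} : Set G))) ∧ l ∣ r := by
  have hle : centralizer ({x, t} : Set G) ≤ centralizer ({x} : Set G) :=
    centralizer_le (Set.singleton_subset_iff.2 (Set.mem_insert x _))
  refine ⟨_, Nat.eq_of_mul_eq_mul_left (Fact.out : l.Prime).pos ?_,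
    D.ctx.prime_dvd_relIndex D.mem Fact.out D.ord⟩
  rw [← D.card_cent]
  have h := ((centralizer ({x, t} : Set G)).subgroupOf (centralizer ({x} : Set G))).card_mul_index
  rw [Nat.card_congr (subgroupOfEquivOfLe hle).toEquiv, D.card_pair] at h
  rw [← h, relIndex]
  ring

/-- All involutions of `X` are conjugate to the image of `u`. -/
theorem exists_conj_tb {v : Quo (centralizer ({x} : Set G))} (hv : orderOf v = 2) :
    ∃ g, g * D.tb * g⁻¹ = v := by
  haveI : Fact (Nat.Prime 2) := ⟨Nat.prime_two⟩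
  obtain ⟨P, hP⟩ := (IsPGroup.of_card (n := 1) (by rw [Nat.card_zpowers, hv, pow_one]) :
    IsPGroup 2 ↥(zpowers v)).exists_le_sylow
  obtain ⟨a, ha⟩ := MulAction.exists_smul_eq (Quo (centralizer ({x} : Set G))) P (quoSylow D.le_cent)
  have hs : a * v * a⁻¹ ∈ (quoSylow D.le_cent : Subgroup (Quo (centralizer ({x} : Set G)))) := by
    rw [← ha, Sylow.coe_subgroup_smul]
    exact ⟨v, hP (mem_zpowers v), rfl⟩
  obtain ⟨s, hs, hse⟩ := (mem_quoSylow D.le_cent).1 hs
  have hs1 : (s : G) ≠ 1 := by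
    intro h
    rw [show s = 1 from Subtype.ext h, map_one] at hse
    rw [conj_eq_one_iff.1 hse.symm, orderOf_one] at hv
    omega
  obtain ⟨n, hn, hne⟩ := D.ctx.exists_conj_of_mem D.ctx.mem D.ctx.ne_one hs hs1
  refine ⟨a⁻¹ * qm _ ⟨n, D.norm_le hn⟩, ?_⟩
  have h1 : qm _ ⟨n, D.norm_le hn⟩ * D.tb * (qm _ ⟨n, D.norm_le hn⟩)⁻¹ = qm _ s := by
    rw [tb, ← map_inv, ← map_mul, ← map_mul]
    exact congrArg _ (Subtype.ext hne)
  rw [show a⁻¹ * qm _ ⟨n, D.norm_le hn⟩ * D.tb * (a⁻¹ * qm _ ⟨n, D.norm_le hn⟩)⁻¹ =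
    a⁻¹ * (qm _ ⟨n, D.norm_le hn⟩ * D.tb * (qm _ ⟨n, D.norm_le hn⟩)⁻¹) * a by group, h1, hse]
  group

/-- No element of order `l` commutes with an involution. -/
theorem not_commute_invol (hl : ¬ l ∣ 2 * Nat.card ↥(E₀ ⊓ centralizer ({x} : Set G)))
    {v y : Quo (centralizer ({x} : Set G))} (hv : orderOf v = 2) (hy : orderOf y = l) :
    ¬ Commute y v := by
  intro hc
  obtain ⟨g, rfl⟩ := D.exists_conj_tb hv
  refine hl ?_
  rw [← D.card_cent_tb]
  refine (((Involutions.Basic.orderOf_conj_eq g⁻¹ y).trans hy).symm.dvd).trans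
    (Subgroup.orderOf_dvd_natCard _ (mem_centralizer_singleton_iff.2 ?_))
  calc g⁻¹ * y * g⁻¹⁻¹ * D.tb = g⁻¹ * (y * (g * D.tb * g⁻¹)) * g := by group
    _ = g⁻¹ * ((g * D.tb * g⁻¹) * y) * g := by rw [hc.eq]
    _ = D.tb * (g⁻¹ * y * g⁻¹⁻¹) := by group

set_option maxHeartbeats 1000000 in
/-- The transfer in terms of `X`. -/
theorem false_of_quot (hsq : ¬ l ^ 2 ∣ Nat.card (Quo (centralizer ({x} : Set G))))
    (Pb : Subgroup (Quo (centralizer ({x} : Set G)))) (hPb : Nat.card ↥Pb = l)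
    (hcent : centralizer (Pb : Set (Quo (centralizer ({x} : Set G)))) ≤ Pb) {p : ℕ} [Fact p.Prime]
    (hp2 : p ≠ 2) (hpl : p ≠ l)
    (hpN : p ∣ Nat.card ↥(normalizer (Pb : Set (Quo (centralizer ({x} : Set G)))))) : False := by
  classical
  haveI := D.ctx.jr.simple
  have hlp : l.Prime := Fact.out
  have hpp : p.Prime := Fact.out
  set π := qm (centralizer ({x} : Set G)) with hπ
  -- `d`
  obtain ⟨⟨δ, hδN⟩, hδo⟩ := exists_prime_orderOf_dvd_card' 
    (G := ↥(normalizer (Pb : Set (Quo (centralizer ({x} : Set G)))))) p hpN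
  rw [Subgroup.orderOf_mk] at hδo
  obtain ⟨g, rfl⟩ := qm_surjective _ δ
  obtain ⟨m, hm⟩ : ∃ m, g ^ l = m := ⟨_, rfl⟩
  set d : G := (m : G) with hd
  have hdp : d ^ p = 1 := by
    have h1 : ((g ^ p : ↥(centralizer ({x} : Set G))) : G) ∈ zpowers x := by
      rw [← D.qm_eq_one, map_pow, ← hδo, pow_orderOf_eq_one]
    obtain ⟨i, hi⟩ := mem_zpowers_iff.1 h1
    rw [hd, ← hm, SubmonoidClass.coe_pow, ← pow_mul, mul_comm, pow_mul,
      ← SubmonoidClass.coe_pow, ← hi, ← zpow_natCast, ← zpow_mul, mul_comm, zpow_mul,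
      zpow_natCast, ← D.ord, pow_orderOf_eq_one, one_zpow]
  have hdcop : (orderOf d).Coprime l :=
    Nat.Coprime.coprime_dvd_left (orderOf_dvd_of_pow_eq_one hdp)
      ((Nat.coprime_primes hpp hlp).2 hpl)
  have hdx : Commute d x := mem_centralizer_singleton_iff.1 m.2
  have hmo : orderOf (π m) = p := by
    rw [← hm, map_pow, Nat.Coprime.orderOf_pow (by rw [hδo]; exact (Nat.coprime_primes hpp hlp).2 hpl),
      hδo]
  have hmN : π m ∈ normalizer (Pb : Set (Quo (centralizer ({x} : Set G)))) := by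
    rw [← hm, map_pow]
    exact pow_mem hδN l
  -- a generator of `Pb`
  obtain ⟨⟨ν, hνP⟩, hνo⟩ := exists_prime_orderOf_dvd_card' (G := ↥Pb) l (by rw [hPb])
  rw [Subgroup.orderOf_mk] at hνo
  have hgen : zpowers ν = Pb :=
    eq_of_le_of_card_ge (zpowers_le.2 hνP) (by rw [hPb, Nat.card_zpowers, hνo])
  obtain ⟨n, rfl⟩ := qm_surjective _ ν
  obtain ⟨k, hk⟩ : ∃ k : ℕ, π n ^ k = π m * π n * (π m)⁻¹ := by
    refine (Submonoid.mem_powers_iff _ _).1 (mem_powers_iff_mem_zpowers.2 ?_)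
    rw [hgen]
    exact (mem_normalizer_iff.1 hmN _).1 hνP
  have hk1 : ¬ k ≡ 1 [MOD l] := by
    intro h
    rw [← hνo, ← pow_eq_pow_iff_modEq, pow_one, hk] at h
    have hc : Commute (π m) (π n) := mul_inv_eq_iff_eq_mul.1 h
    have hmem : π m ∈ Pb := hcent (mem_centralizer_iff.2 fun z hz => by
      obtain ⟨i, rfl⟩ := mem_zpowers_iff.1 (hgen.symm ▸ hz)
      exact (hc.zpow_right i).eq.symm)
    have h2 := Subgroup.orderOf_dvd_natCard _ hmem
    rw [hmo, hPb] at h2
    exact hpl ((Nat.prime_dvd_prime_iff_eq hpp hlp).1 h2)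
  have hconj : ∀ i : ℕ, π m ^ i * π n * (π m ^ i)⁻¹ = π n ^ (k ^ i) := by
    intro i
    induction i with
    | zero => simp
    | succ i ih =>
      rw [show π m ^ (i + 1) * π n * (π m ^ (i + 1))⁻¹ =
        π m ^ i * (π m * π n * (π m)⁻¹) * (π m ^ i)⁻¹ by rw [pow_succ]; group, ← hk, ← conj_pow, ih,
        ← pow_mul, pow_succ]
  have hkp : k ^ p ≡ 1 [MOD l] := by
    rw [← hνo, ← pow_eq_pow_iff_modEq, pow_one, ← hconj, ← hmo, pow_orderOf_eq_one]
    group
    rfl
  have hk2 : ¬ k ^ 2 ≡ 1 [MOD l] := by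
    intro h
    obtain ⟨j, hj⟩ := hpp.odd_of_ne_two hp2
    rw [hj, pow_add, pow_mul, pow_one] at hkp
    refine hk1 (Nat.ModEq.trans ?_ hkp)
    have := ((h.pow j).mul_right k).symm
    rwa [one_pow, one_mul] at this
  -- `d n d⁻¹ = n ^ k x ^ j`
  obtain ⟨j, hj⟩ : ∃ j : ℕ, d * (n : G) * d⁻¹ = (n : G) ^ k * x ^ j := by
    have h1 : (((n ^ k)⁻¹ * (m * n * m⁻¹) : ↥(centralizer ({x} : Set G))) : G) ∈ zpowers x := by
      rw [← D.qm_eq_one, map_mul, map_inv, map_pow, map_mul, map_mul, map_inv, hk, inv_mul_cancel]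
    obtain ⟨j, hj⟩ := (Submonoid.mem_powers_iff _ _).1 (mem_powers_iff_mem_zpowers.2 h1)
    refine ⟨j, ?_⟩
    rw [hj]
    simp only [Subgroup.coe_mul, InvMemClass.coe_inv, SubmonoidClass.coe_pow]
    rw [mul_inv_cancel_left]
  have hnx : Commute (n : G) x := mem_centralizer_singleton_iff.1 n.2
  have hxl : x ^ l = 1 := by rw [← D.ord, pow_orderOf_eq_one]
  have hnl : (n : G) ^ l = 1 := by
    have h1 : ((n ^ l : ↥(centralizer ({x} : Set G))) : G) ∈ zpowers x := by
      rw [← D.qm_eq_one, map_pow, ← hνo, pow_orderOf_eq_one]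
    obtain ⟨i, hi⟩ := mem_zpowers_iff.1 h1
    rw [SubmonoidClass.coe_pow] at hi
    have h2 : d * (n : G) ^ l * d⁻¹ = (n : G) ^ l := by
      rw [← hi, (hdx.zpow_right i).eq, mul_inv_cancel_right]
    rw [← conj_pow, hj, (hnx.pow_pow k j).mul_pow, ← pow_mul, ← pow_mul, mul_comm j l, pow_mul x,
      hxl, one_pow, mul_one, mul_comm k l, pow_mul] at h2
    by_contra hne
    have ho : orderOf ((n : G) ^ l) = l := by
      refine orderOf_eq_prime ?_ hne
      rw [← hi, ← zpow_natCast, ← zpow_mul, mul_comm, zpow_mul, zpow_natCast, hxl, one_zpow]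
    refine hk1 ?_
    rw [← ho, ← pow_eq_pow_iff_modEq, pow_one]
    exact h2
  -- `w`
  set w : G := d * (n : G) * d⁻¹ * (n : G)⁻¹ with hw
  have hwC : w ∈ centralizer ({x} : Set G) :=
    mul_mem (mul_mem (mul_mem m.2 n.2) (inv_mem m.2)) (inv_mem n.2)
  have hwe : w = (n : G) ^ k * x ^ j * (n : G)⁻¹ := by rw [hw, hj]
  have hwl : w ^ l = 1 := by
    have h1 : Commute ((n : G) ^ k * x ^ j) (n : G)⁻¹ :=
      (((Commute.refl (n : G)).pow_left k).mul_left (hnx.symm.pow_left j)).inv_right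
    rw [hwe, h1.mul_pow, (hnx.pow_pow k j).mul_pow, ← pow_mul, ← pow_mul, inv_pow, hnl,
      mul_comm k l, pow_mul, hnl, mul_comm j l, pow_mul, hxl]
    simp
  have hdw : d * w * d⁻¹ = w ^ k := by
    have hL : d * w * d⁻¹ = ((n : G) ^ k * x ^ j) ^ k * x ^ j * ((n : G) ^ k * x ^ j)⁻¹ := by
      rw [hwe, show d * ((n : G) ^ k * x ^ j * (n : G)⁻¹) * d⁻¹ =
          (d * (n : G) ^ k * d⁻¹) * (d * x ^ j * d⁻¹) * (d * (n : G) * d⁻¹)⁻¹ by group,
        ← conj_pow, hj, (hdx.pow_right j).eq, mul_inv_cancel_right]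
    have h1 : Commute ((n : G) ^ k * x ^ j) (n : G)⁻¹ :=
      (((Commute.refl (n : G)).pow_left k).mul_left (hnx.symm.pow_left j)).inv_right
    rw [hL, hwe, h1.mul_pow, inv_pow, mul_inv_rev, mul_assoc (((n : G) ^ k * x ^ j) ^ k),
      mul_inv_cancel_left]
  have hwπ : π ⟨w, hwC⟩ = π n ^ k * (π n)⁻¹ := by
    rw [show (⟨w, hwC⟩ : ↥(centralizer ({x} : Set G))) = m * n * m⁻¹ * n⁻¹ from rfl, map_mul,
      map_mul, map_mul, map_inv, map_inv, hk]
  have hw1 : π ⟨w, hwC⟩ ≠ 1 := by
    intro h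
    rw [hwπ, mul_inv_eq_one] at h
    refine hk1 ?_
    rw [← hνo, ← pow_eq_pow_iff_modEq, pow_one]
    exact h
  have hwgen : zpowers (π ⟨w, hwC⟩) = Pb := by
    have hwP : π ⟨w, hwC⟩ ∈ Pb := by
      rw [hwπ]
      exact mul_mem (pow_mem hνP k) (inv_mem hνP)
    refine eq_of_le_of_card_ge (zpowers_le.2 hwP) ?_
    rw [hPb, Nat.card_zpowers]
    refine (orderOf_eq_prime ?_ hw1).ge
    rw [← map_pow]
    refine (D.qm_eq_one _).2 ?_
    show w ^ l ∈ zpowers x
    rw [hwl]
    exact one_mem _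
  have hwnx : w ∉ zpowers x := fun h => hw1 ((D.qm_eq_one _).2 h)
  have B : Base x w l :=
    { ne_two := D.ne_two
      ordx := D.ord
      ordw := orderOf_eq_prime hwl fun h => hwnx (h ▸ one_mem _)
      comm := mem_centralizer_singleton_iff.1 hwC
      not_mem := hwnx
      not_cube := by
        rw [D.card_cent, pow_succ', Nat.mul_dvd_mul_iff_left hlp.pos]
        exact hsq
      cent := by
        intro g hgx hgw
        have hgC : g ∈ centralizer ({x} : Set G) := mem_centralizer_singleton_iff.2 hgx.eq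
        have hc : Commute (π ⟨g, hgC⟩) (π ⟨w, hwC⟩) :=
          Commute.map (show Commute (⟨g, hgC⟩ : ↥(centralizer ({x} : Set G))) ⟨w, hwC⟩ from
            Subtype.ext hgw.eq) π
        have hg : π ⟨g, hgC⟩ ∈ zpowers (π ⟨w, hwC⟩) := by
          rw [hwgen]
          refine hcent (mem_centralizer_iff.2 fun z hz => ?_)
          obtain ⟨i, rfl⟩ := mem_zpowers_iff.1 (hwgen.symm ▸ hz)
          exact (hc.zpow_right i).eq.symm
        obtain ⟨i, hi⟩ := mem_zpowers_iff.1 hg
        have h2 : ((⟨w, hwC⟩ ^ i)⁻¹ * ⟨g, hgC⟩ : ↥(centralizer ({x} : Set G))).val ∈ zpowers x := by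
          rw [← D.qm_eq_one, map_mul, map_inv, map_zpow, hi, inv_mul_cancel]
        have e : g = w ^ i * ((w ^ i)⁻¹ * g) := by group
        rw [e]
        refine mul_mem (mem_sup_right (zpow_mem (mem_zpowers w) i)) (mem_sup_left ?_)
        simpa using h2
      norm := fun g hg => (D.ctx.conj_fieldPart_eq D.mem (zpowers_le.2 D.mem hg) rfl).symm }
  exact SmallPrime.false_of_base B D.ctx.not_comm hdx hdw hdcop hk2

end Data

end Cfsg.Agent.Lib.Walter.NoField.SmallPrime
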