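import Cfsg.Agent.Lib.Walter.NoField.SmallPrime.Normalizer
import Cfsg.Agent.Lib.SmallGroups.Sylow

/-!
# Section Z, small primes: `E₀ ∩ C(x) ≅ A₄`

`C(x)/⟨x⟩` is the group `H` of order 168 or has `PSL(2,8)` normal of index 1 or 3; `l = 7`, and a
subgroup of order 7 of `H` is its own centraliser, with an element of order 3 of `H` normalising it.

Owner: helper87.
-/

set_option autoImplicit false
set_option linter.style.haveILetI false
set_option linter.unusedSectionVars false

universe u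

namespace Cfsg.Agent.Lib.Walter.NoField.SmallPrime

open Subgroup JRCore

namespace Data

variable {G : Type u} [Group G] [Finite G] {S : Sylow 2 G} {t : G} {E E₀ : Subgroup G} {x : G}

section

variable {l : ℕ} [Fact l.Prime] (D : Data S t E E₀ x l)
include D

/-- With a normal `PSL(2,8)` containing `T` the index is 1 or 3. -/
theorem index_even (hL : PropKnownFacts.{u}) {K : Subgroup (Quo (centralizer ({x} : Set G)))}
    (hKn : K.Normal) (hTK : D.Tb ≤ K) (hev : IsEvenType ↥K) : K.index ∣ 3 := by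
  classical
  haveI := hKn
  haveI : Fact (Nat.Prime 2) := ⟨Nat.prime_two⟩
  have hTK' : (quoSylow D.le_cent : Subgroup (Quo (centralizer ({x} : Set G)))) ≤ K := hTK
  obtain ⟨n, hn, -, htr⟩ := (hL.1 _ (Or.inl hev)).torus ((quoSylow D.le_cent).subtype hTK')
  simp only [Sylow.coe_subtype, mem_subgroupOf] at htr
  set y : Quo (centralizer ({x} : Set G)) := (n : Quo (centralizer ({x} : Set G))) with hy
  have hyH : y ∈ D.Hb := D.mem_Hb fun z hz => by
    have h := (mem_normalizer_iff.1 hn ⟨z, hTK hz⟩).1 (mem_subgroupOf.2 hz)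
    exact mem_subgroupOf.1 h
  have hreach : ∀ v w : D.Pts, ∃ k : ℕ, y ^ k * (v : Quo (centralizer ({x} : Set G))) * (y ^ k)⁻¹ = w :=
    fun v w => by
      obtain ⟨k, hk⟩ := htr ⟨v, hTK v.2.1⟩ v.2.1 (fun h => v.2.2 (congrArg Subtype.val h))
        ⟨w, hTK w.2.1⟩ w.2.1 (fun h => w.2.2 (congrArg Subtype.val h))
      exact ⟨k, congrArg Subtype.val hk⟩
  obtain ⟨v⟩ : Nonempty D.Pts := (Nat.card_pos_iff.1 (by rw [D.card_pts]; norm_num)).1
  choose k hk using hreach v
  have h7 : 7 ≤ orderOf y := by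
    have hinj : Function.Injective fun w : D.Pts =>
        (⟨k w % orderOf y, Nat.mod_lt _ (orderOf_pos y)⟩ : Fin (orderOf y)) := fun a b h => by
      have h' : k a % orderOf y = k b % orderOf y := congrArg Fin.val h
      refine Subtype.ext ?_
      rw [← hk a, ← hk b, ← pow_mod_orderOf y (k a), h', pow_mod_orderOf]
    have h := Nat.card_le_card_of_injective _ hinj
    rwa [D.card_pts, Nat.card_eq_fintype_card, Fintype.card_fin] at h
  set c := Nat.card ↥(K.subgroupOf D.Hb) with hc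
  have hyc : orderOf y ∣ c := by
    rw [← Subgroup.orderOf_mk y hyH]
    exact Subgroup.orderOf_dvd_natCard _ (mem_subgroupOf.2 n.2)
  have h8 : 8 ∣ c := by
    rw [← D.card_Tb, ← Nat.card_congr (subgroupOfEquivOfLe D.Tb_le).toEquiv]
    exact card_dvd_of_le fun z hz => mem_subgroupOf.2 (hTK (mem_subgroupOf.1 hz))
  have hidx : c * K.index = 168 := by
    have htop : D.Hb ⊔ K = ⊤ := by
      refine eq_top_iff.2 ((Sylow.normalizer_sup_eq_top' (quoSylow D.le_cent) hTK').ge.trans
        (sup_le_sup_right (fun z hz => D.mem_Hb fun a ha => ?_) K))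
      exact (mem_normalizer_iff.1 hz a).1 ha
    rw [hc, ← relIndex_top_right K, ← htop, relIndex_sup_right, relIndex,
      card_mul_index, D.card_Hb]
  have hodd : ¬ 2 ∣ orderOf y := fun h2 => by
    obtain ⟨a, ha⟩ := h2
    have h1 : orderOf (y ^ a) = 2 := by
      have ha0 : a ≠ 0 := fun h0 => (orderOf_pos y).ne' (by rw [ha, h0, mul_zero])
      rw [orderOf_pow' y ha0, ha, Nat.gcd_mul_left_left,
        Nat.mul_div_cancel _ (Nat.pos_of_ne_zero ha0)]
    have h3 := Subgroup.orderOf_dvd_natCard _ (pow_mem hyH a)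
    rw [h1] at h3
    -- an involution of `H` lies in `T`
    have hmem : y ^ a ∈ D.Tb := by
      haveI : (D.Tb.subgroupOf D.Hb).Normal := ⟨fun z hz g => mem_subgroupOf.2
        (D.conj_mem_Tb g.2 (mem_subgroupOf.1 hz))⟩
      have hi : (D.Tb.subgroupOf D.Hb).index = 21 := by
        have h := (D.Tb.subgroupOf D.Hb).card_mul_index
        rw [Nat.card_congr (subgroupOfEquivOfLe D.Tb_le).toEquiv, D.card_Tb, D.card_Hb] at h
        omega
      have := orderOf_map_dvd (QuotientGroup.mk' (D.Tb.subgroupOf D.Hb)) ⟨y ^ a, pow_mem hyH a⟩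
      rw [Subgroup.orderOf_mk, h1] at this
      have h21 : orderOf (QuotientGroup.mk' (D.Tb.subgroupOf D.Hb) ⟨y ^ a, pow_mem hyH a⟩) ∣ 21 := by
        rw [← hi, index_eq_card]
        exact orderOf_dvd_natCard _
      exact mem_subgroupOf.1 ((QuotientGroup.eq_one_iff _).1 (orderOf_eq_one_iff.1
        (Nat.eq_one_of_dvd_coprimes (show Nat.Coprime 2 21 by norm_num) this h21)))
    -- it is fixed by `y`, which is transitive
    obtain ⟨w, hw⟩ : ∃ w : D.Pts, w ≠ ⟨y ^ a, hmem, fun h => by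
        rw [h, orderOf_one] at h1; omega⟩ := by
      haveI : Nontrivial D.Pts := Finite.one_lt_card_iff_nontrivial.1 (by rw [D.card_pts]; norm_num)
      exact exists_ne _
    obtain ⟨i, hi⟩ := htr ⟨y ^ a, hTK hmem⟩ hmem (fun h => by
      rw [show y ^ a = 1 from congrArg Subtype.val h, orderOf_one] at h1; omega)
      ⟨w, hTK w.2.1⟩ w.2.1 (fun h => w.2.2 (congrArg Subtype.val h))
    refine hw (Subtype.ext ?_)
    have hi' : y ^ i * y ^ a * (y ^ i)⁻¹ = (w : Quo (centralizer ({x} : Set G))) :=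
      congrArg Subtype.val hi
    rw [← hi', (Commute.pow_pow_self y i a).eq, mul_inv_cancel_right]
  -- `56 ∣ c`
  have hc168 : c ∣ 168 := Dvd.intro _ hidx
  have h56 : 56 ∣ c := by
    have key : ∀ a ∈ Nat.divisors 168, ¬ 2 ∣ a → 7 ≤ a → 7 ∣ a := by decide +kernel
    have h7c : 7 ∣ c := (key _ (Nat.mem_divisors.2 ⟨hyc.trans hc168, by norm_num⟩) hodd h7).trans hyc
    exact (show Nat.Coprime 8 7 by norm_num).mul_dvd_of_dvd_of_dvd h8 h7c
  obtain ⟨e, he⟩ := h56
  rw [he, mul_assoc] at hidx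
  exact Dvd.intro_left e (by omega)

end

variable [Fact (Nat.Prime 7)] (D : Data S t E E₀ x 7)
include D

theorem free (h12 : Nat.card ↥(E₀ ⊓ centralizer ({x} : Set G)) = 12)
    {y : Quo (centralizer ({x} : Set G))} (hy : orderOf y = 7)
    (v : Quo (centralizer ({x} : Set G))) (hv : orderOf v = 2) : ¬ Commute y v :=
  D.not_commute_invol (by rw [h12]; norm_num) hv hy

/-- The Sylow 7-subgroups of `H`. -/
theorem sylow_Hb (h12 : Nat.card ↥(E₀ ⊓ centralizer ({x} : Set G)) = 12) (Q : Sylow 7 ↥D.Hb) :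
    Nat.card ↥(Q : Subgroup ↥D.Hb) = 7 ∧ Nat.card (Sylow 7 ↥D.Hb) = 8 ∧
      Nat.card ↥(normalizer ((Q : Subgroup ↥D.Hb) : Set ↥D.Hb)) = 21 := by
  have hcard : Nat.card ↥(Q : Subgroup ↥D.Hb) = 7 := by
    have := SmallGroups.Sylow.card_sylow_eq Q (a := 1) (m := 24) (by rw [D.card_Hb]; norm_num)
      (by norm_num)
    rwa [pow_one] at this
  have hidx : (Q : Subgroup ↥D.Hb).index = 24 := by
    have h := (Q : Subgroup ↥D.Hb).card_mul_index
    rw [hcard, D.card_Hb] at h
    omega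
  have hd := Q.card_dvd_index
  rw [hidx] at hd
  have hm : Nat.card (Sylow 7 ↥D.Hb) % 7 = 1 := card_sylow_modEq_one 7 ↥D.Hb
  have key : ∀ a ∈ Nat.divisors 24, a % 7 = 1 → a = 1 ∨ a = 8 := by decide +kernel
  have hn : Nat.card (Sylow 7 ↥D.Hb) = 8 := by
    refine (key _ (Nat.mem_divisors.2 ⟨hd, by norm_num⟩) hm).resolve_left fun h1 => ?_
    -- a normal Sylow subgroup centralises `T`
    haveI := (Nat.card_eq_one_iff_unique.1 h1).1
    haveI : (Q : Subgroup ↥D.Hb).Normal := Sylow.normal_of_subsingleton Q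
    obtain ⟨⟨y, hyQ⟩, hy⟩ := exists_prime_orderOf_dvd_card' (G := ↥(Q : Subgroup ↥D.Hb)) 7
      (by rw [hcard])
    rw [Subgroup.orderOf_mk] at hy
    obtain ⟨v⟩ : Nonempty D.Pts := (Nat.card_pos_iff.1 (by rw [D.card_pts]; norm_num)).1
    let v' : ↥D.Hb := ⟨v, D.Tb_le v.2.1⟩
    haveI : (D.Tb.subgroupOf D.Hb).Normal := ⟨fun z hz g => mem_subgroupOf.2
      (D.conj_mem_Tb g.2 (mem_subgroupOf.1 hz))⟩
    have hdis : Disjoint (Q : Subgroup ↥D.Hb) (D.Tb.subgroupOf D.Hb) :=
      (disjoint_of_coprime_natCard (by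
        rw [hcard, Nat.card_congr (subgroupOfEquivOfLe D.Tb_le).toEquiv, D.card_Tb]
        norm_num))
    have hc : Commute y v' := commute_of_normal_of_disjoint _ _ inferInstance inferInstance hdis y v'
      hyQ (mem_subgroupOf.2 v.2.1)
    exact D.free h12 ((Subgroup.orderOf_coe y).trans hy) _ (D.orderOf_pts v)
      (congrArg Subtype.val hc.eq)
  refine ⟨hcard, hn, ?_⟩
  have h := (normalizer ((Q : Subgroup ↥D.Hb) : Set ↥D.Hb)).card_mul_index
  rw [show (normalizer ((Q : Subgroup ↥D.Hb) : Set ↥D.Hb)).index = 8 from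
    Q.card_eq_index_normalizer.symm.trans hn, D.card_Hb] at h
  omega

/-- The case `q₀ = 3` at a subgroup of order 7 of `H` whose centraliser has order prime to 3. -/
theorem false_of_three_free (h12 : Nat.card ↥(E₀ ⊓ centralizer ({x} : Set G)) = 12) {e : ℕ}
    (he : Nat.card (Quo (centralizer ({x} : Set G))) = 168 * e) (hne : e ∣ 9) (Q : Sylow 7 ↥D.Hb)
    (h3 : ¬ 3 ∣ Nat.card ↥(centralizer (((Q : Subgroup ↥D.Hb).map D.Hb.subtype) :
      Set (Quo (centralizer ({x} : Set G)))))) : False := by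
  classical
  haveI : Fact (Nat.Prime 3) := ⟨Nat.prime_three⟩
  haveI : Fact (Nat.Prime 2) := ⟨Nat.prime_two⟩
  obtain ⟨hcard, -, hN⟩ := D.sylow_Hb h12 Q
  set Pb := (Q : Subgroup ↥D.Hb).map D.Hb.subtype with hPb
  have hPbc : Nat.card ↥Pb = 7 := by
    rw [hPb, Subgroup.card_map_of_injective D.Hb.subtype_injective, hcard]
  have hle : Pb ≤ centralizer (Pb : Set (Quo (centralizer ({x} : Set G)))) := by
    haveI := isCyclic_of_prime_card hPbc
    letI : CommGroup ↥Pb := IsCyclic.commGroup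
    intro a ha
    exact mem_centralizer_iff.2 fun b hb =>
      congrArg Subtype.val (mul_comm (⟨b, hb⟩ : ↥Pb) ⟨a, ha⟩)
  have hX : Nat.card (Quo (centralizer ({x} : Set G))) ∣ 7 * (8 * 27) := by
    rw [he, show 7 * (8 * 27) = 168 * 9 by norm_num]
    exact Nat.mul_dvd_mul_left _ hne
  have hC : centralizer (Pb : Set (Quo (centralizer ({x} : Set G)))) ≤ Pb := by
    refine (eq_of_le_of_card_ge hle ?_).ge
    rw [hPbc]
    set c := Nat.card ↥(centralizer (Pb : Set (Quo (centralizer ({x} : Set G))))) with hc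
    have h2 : ¬ 2 ∣ c := fun h => by
      obtain ⟨⟨v, hv⟩, hvo⟩ := exists_prime_orderOf_dvd_card' (G :=
        ↥(centralizer (Pb : Set (Quo (centralizer ({x} : Set G)))))) 2 h
      rw [Subgroup.orderOf_mk] at hvo
      obtain ⟨⟨y, hy⟩, hyo⟩ := exists_prime_orderOf_dvd_card' (G := ↥Pb) 7 (by rw [hPbc])
      rw [Subgroup.orderOf_mk] at hyo
      exact D.free h12 hyo v hvo (mem_centralizer_iff.1 hv y hy)
    have hd : c ∣ 7 * (8 * 27) := (Subgroup.card_subgroup_dvd_card _).trans hX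
    have h8 : c.Coprime (8 * 27) := by
      refine Nat.Coprime.mul_right ?_ ?_
      · exact ((Nat.Prime.coprime_iff_not_dvd Nat.prime_two).2 h2).symm.pow_right 3
      · exact ((Nat.Prime.coprime_iff_not_dvd Nat.prime_three).2 h3).symm.pow_right 3
    exact Nat.le_of_dvd (by norm_num) (h8.dvd_of_dvd_mul_right hd)
  refine D.false_of_quot (fun h => ?_) Pb hPbc hC (p := 3) (by norm_num) (by norm_num) ?_
  · have := h.trans hX
    norm_num at this
  · have h1 : Nat.card ↥((normalizer ((Q : Subgroup ↥D.Hb) : Set ↥D.Hb)).map D.Hb.subtype) = 21 := by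
      rw [Subgroup.card_map_of_injective D.Hb.subtype_injective, hN]
    exact (show 3 ∣ 21 by norm_num).trans (h1 ▸ card_dvd_of_le (le_normalizer_map _))

/-- `C(x)/⟨x⟩` of order 168. -/
theorem false_of_solvable (h12 : Nat.card ↥(E₀ ⊓ centralizer ({x} : Set G)) = 12)
    (htop : D.Hb = ⊤) : False := by
  haveI : Fact (Nat.Prime 3) := ⟨Nat.prime_three⟩
  obtain ⟨Q⟩ : Nonempty (Sylow 7 ↥D.Hb) := inferInstance
  refine D.false_of_three_free h12 (e := 1) ?_ (one_dvd _) Q fun h => ?_
  · rw [mul_one, ← Subgroup.card_top, ← htop, D.card_Hb]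
  obtain ⟨⟨s, hs⟩, hso⟩ := exists_prime_orderOf_dvd_card' (G := ↥(centralizer
    (((Q : Subgroup ↥D.Hb).map D.Hb.subtype) : Set (Quo (centralizer ({x} : Set G)))))) 3 h
  rw [Subgroup.orderOf_mk] at hso
  obtain ⟨⟨y, hyQ⟩, hyo⟩ := exists_prime_orderOf_dvd_card' (G := ↥(Q : Subgroup ↥D.Hb)) 7
    (by rw [(D.sylow_Hb h12 Q).1])
  rw [Subgroup.orderOf_mk, ← Subgroup.orderOf_coe] at hyo
  exact D.not_commute_three (D.free h12 hyo) y.2 (htop ▸ mem_top s) hyo hso
    (mem_centralizer_iff.1 hs _ (mem_map_of_mem _ hyQ)).symm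

/-- `C(x)/⟨x⟩` over `PSL(2,8)`. -/
theorem false_of_even (h12 : Nat.card ↥(E₀ ⊓ centralizer ({x} : Set G)) = 12)
    {K : Subgroup (Quo (centralizer ({x} : Set G)))} (hKn : K.Normal) (hs : IsSimpleGroup ↥K)
    (h504 : Nat.card ↥K = 504) (hidx : K.index ∣ 3) : False := by
  classical
  haveI := hKn
  haveI := hs
  haveI : Fact (Nat.Prime 3) := ⟨Nat.prime_three⟩
  have hXc : Nat.card (Quo (centralizer ({x} : Set G))) = 504 * K.index := by
    rw [← K.card_mul_index, h504]
  have hi3 : K.index = 1 ∨ K.index = 3 := (Nat.dvd_prime Nat.prime_three).1 hidx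
  obtain ⟨Q⟩ : Nonempty (Sylow 7 ↥D.Hb) := inferInstance
  obtain ⟨hQc, hn8, hQN⟩ := D.sylow_Hb h12 Q
  have hXsyl : ∀ P : Sylow 7 (Quo (centralizer ({x} : Set G))),
      Nat.card ↥(P : Subgroup (Quo (centralizer ({x} : Set G)))) = 7 := fun P => by
    have := SmallGroups.Sylow.card_sylow_eq P (a := 1) (m := 72 * K.index) (by rw [hXc]; ring)
      (by rcases hi3 with h | h <;> rw [h] <;> norm_num)
    rwa [pow_one] at this
  -- the Sylow subgroups of `H` are ones of `X`
  have hext : ∀ R : Sylow 7 ↥D.Hb, ∃ P : Sylow 7 (Quo (centralizer ({x} : Set G))),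
      (P : Subgroup (Quo (centralizer ({x} : Set G)))) = (R : Subgroup ↥D.Hb).map D.Hb.subtype := by
    intro R
    obtain ⟨P, hP⟩ := (R.isPGroup'.map D.Hb.subtype).exists_le_sylow
    refine ⟨P, (eq_of_le_of_card_ge hP ?_).symm⟩
    rw [hXsyl P, Subgroup.card_map_of_injective D.Hb.subtype_injective, (D.sylow_Hb h12 R).1]
  choose f hf using hext
  have hfinj : Function.Injective f := fun R R' h => by
    refine Sylow.ext (map_injective D.Hb.subtype_injective ?_)
    rw [← hf R, ← hf R', h]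
  have h8le : 8 ≤ Nat.card (Sylow 7 (Quo (centralizer ({x} : Set G)))) :=
    hn8 ▸ Nat.card_le_card_of_injective f hfinj
  have hne8 : Nat.card (Sylow 7 (Quo (centralizer ({x} : Set G)))) ≠ 8 := by
    intro h8
    have hsurj := ((Nat.bijective_iff_injective_and_card f).2 ⟨hfinj, by rw [hn8, h8]⟩).2
    set M := Subgroup.normalClosure {z : Quo (centralizer ({x} : Set G)) | orderOf z = 7} with hM
    have hMH : M ≤ D.Hb := by
      rw [hM, Subgroup.normalClosure, closure_le]
      intro z hz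
      obtain ⟨a, ha, hc⟩ := Group.mem_conjugatesOfSet_iff.1 hz
      obtain ⟨g, rfl⟩ := isConj_iff.1 hc
      have ho : orderOf (g * a * g⁻¹) = 7 := by rw [Involutions.Basic.orderOf_conj_eq]; exact ha
      obtain ⟨P, hP⟩ := (IsPGroup.of_card (n := 1) (by rw [Nat.card_zpowers, ho, pow_one]) :
        IsPGroup 7 ↥(zpowers (g * a * g⁻¹))).exists_le_sylow
      obtain ⟨R, rfl⟩ := hsurj P
      have := hP (mem_zpowers _)
      rw [hf R] at this
      exact map_subtype_le _ this
    obtain ⟨⟨k, hkK⟩, hko⟩ := exists_prime_orderOf_dvd_card' (G := ↥K) 7 (by rw [h504]; norm_num)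
    haveI : (M.subgroupOf K).Normal := (Subgroup.normalClosure_normal).subgroupOf K
    rcases Subgroup.Normal.eq_bot_or_eq_top (H := M.subgroupOf K) inferInstance with h | h
    · have h1 : (⟨k, hkK⟩ : ↥K) ∈ M.subgroupOf K :=
        mem_subgroupOf.2 (Subgroup.subset_normalClosure (by
          rw [Subgroup.orderOf_mk] at hko; exact hko))
      rw [h, mem_bot] at h1
      rw [h1, orderOf_one] at hko
      norm_num at hko
    · have := card_dvd_of_le ((subgroupOf_eq_top.1 h).trans hMH)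
      rw [h504, D.card_Hb] at this
      norm_num at this
  set Pb := (Q : Subgroup ↥D.Hb).map D.Hb.subtype with hPb
  obtain ⟨P, hP⟩ : ∃ P : Sylow 7 (Quo (centralizer ({x} : Set G))),
      (P : Subgroup (Quo (centralizer ({x} : Set G)))) = Pb := ⟨f Q, hf Q⟩
  set N := normalizer (Pb : Set (Quo (centralizer ({x} : Set G)))) with hN
  set W := centralizer (Pb : Set (Quo (centralizer ({x} : Set G)))) with hW
  have hNn : Nat.card ↥N * Nat.card (Sylow 7 (Quo (centralizer ({x} : Set G)))) =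
      504 * K.index := by
    rw [show Nat.card (Sylow 7 (Quo (centralizer ({x} : Set G)))) = N.index by
      rw [hN, ← hP]; exact P.card_eq_index_normalizer, card_mul_index, hXc]
  have hN3 : 3 ∣ Nat.card ↥N := by
    have h1 : Nat.card ↥((normalizer ((Q : Subgroup ↥D.Hb) : Set ↥D.Hb)).map D.Hb.subtype) = 21 := by
      rw [Subgroup.card_map_of_injective D.Hb.subtype_injective, hQN]
    exact (show 3 ∣ 21 by norm_num).trans (h1 ▸ card_dvd_of_le (le_normalizer_map _))
  have hn : Nat.card (Sylow 7 (Quo (centralizer ({x} : Set G)))) = 36 := by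
    have hd := P.card_dvd_index
    have hi : (P : Subgroup (Quo (centralizer ({x} : Set G)))).index = 72 * K.index := by
      have h := (P : Subgroup (Quo (centralizer ({x} : Set G)))).card_mul_index
      rw [hXsyl P, hXc] at h
      omega
    rw [hi] at hd
    have hm : Nat.card (Sylow 7 (Quo (centralizer ({x} : Set G)))) % 7 = 1 :=
      card_sylow_modEq_one 7 _
    have key : ∀ a ∈ Nat.divisors 216, a % 7 = 1 → a = 1 ∨ a = 8 ∨ a = 36 := by decide +kernel
    have h216 : 72 * K.index ∣ 216 := by rcases hi3 with h | h <;> rw [h] <;> norm_num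
    rcases key _ (Nat.mem_divisors.2 ⟨hd.trans h216, by norm_num⟩) hm with h | h | h
    · omega
    · exact absurd h hne8
    · exact h
  rw [hn] at hNn
  have hi : K.index = 3 := hi3.resolve_left fun h1 => by
    rw [h1] at hNn
    obtain ⟨a, ha⟩ := hN3
    omega
  rw [hi] at hNn
  refine D.false_of_three_free h12 (e := 9) (by rw [hXc, hi]) dvd_rfl Q fun h3 => ?_
  rw [← hPb] at h3
  have hWN : W ≤ N := centralizer_le_normalizer _
  have hPbc : Nat.card ↥Pb = 7 := hP ▸ hXsyl P
  have hPW : Pb ≤ W := by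
    haveI := isCyclic_of_prime_card hPbc
    letI : CommGroup ↥Pb := IsCyclic.commGroup
    intro a ha
    exact mem_centralizer_iff.2 fun b hb =>
      congrArg Subtype.val (mul_comm (⟨b, hb⟩ : ↥Pb) ⟨a, ha⟩)
  obtain ⟨⟨y, hy⟩, hyo⟩ := exists_prime_orderOf_dvd_card' (G := ↥(Q : Subgroup ↥D.Hb)) 7
    (by rw [hQc])
  rw [Subgroup.orderOf_mk, ← Subgroup.orderOf_coe] at hyo
  have hyP : (y : Quo (centralizer ({x} : Set G))) ∈ Pb := mem_map_of_mem _ hy
  have hW2 : ¬ 2 ∣ Nat.card ↥W := fun h => by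
    haveI : Fact (Nat.Prime 2) := ⟨Nat.prime_two⟩
    obtain ⟨⟨v, hv⟩, hvo⟩ := exists_prime_orderOf_dvd_card' (G := ↥W) 2 h
    rw [Subgroup.orderOf_mk] at hvo
    exact D.free h12 hyo v hvo (mem_centralizer_iff.1 hv _ hyP)
  have h21 : Nat.card ↥W = 21 := by
    have hd : Nat.card ↥W ∣ 42 := by
      refine (card_dvd_of_le hWN).trans ?_
      rw [show Nat.card ↥N = 42 by omega]
    have h7 : 7 ∣ Nat.card ↥W := hPbc ▸ card_dvd_of_le hPW
    have key : ∀ a ∈ Nat.divisors 42, 7 ∣ a → 3 ∣ a → ¬ 2 ∣ a → a = 21 := by decide +kernel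
    exact key _ (Nat.mem_divisors.2 ⟨hd, by norm_num⟩) h7 h3 hW2
  have hidx2 : (W.subgroupOf N).index = 2 := by
    have h := (W.subgroupOf N).card_mul_index
    rw [Nat.card_congr (subgroupOfEquivOfLe hWN).toEquiv, h21] at h
    omega
  -- an element of order 3 of `H` normalising `Pb`
  obtain ⟨⟨s, hsN⟩, hso⟩ := exists_prime_orderOf_dvd_card'
    (G := ↥(normalizer ((Q : Subgroup ↥D.Hb) : Set ↥D.Hb))) 3 (by rw [hQN]; norm_num)
  rw [Subgroup.orderOf_mk, ← Subgroup.orderOf_coe] at hso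
  have hsN' : (s : Quo (centralizer ({x} : Set G))) ∈ N := le_normalizer_map _ (mem_map_of_mem _ hsN)
  have hsW : (s : Quo (centralizer ({x} : Set G))) ∈ W := by
    have h1 := mem_subgroupOf.1 (sq_mem_of_index_two hidx2
      ((⟨(s : Quo (centralizer ({x} : Set G))), hsN'⟩ : ↥N) ^ 2))
    simp only [SubmonoidClass.coe_pow, ← pow_mul] at h1
    rwa [show 2 * 2 = orderOf (s : Quo (centralizer ({x} : Set G))) + 1 by rw [hso], pow_succ,
      pow_orderOf_eq_one, one_mul] at h1
  exact D.not_commute_three (D.free h12 hyo) y.2 s.2 hyo hso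
    (mem_centralizer_iff.1 hsW _ hyP).symm

end Data

/-- The case `q₀ = 3`. -/
theorem Data.false_three {G : Type u} [Group G] [Finite G] {S : Sylow 2 G} {t : G}
    {E E₀ : Subgroup G} {x : G} {l : ℕ} [Fact l.Prime] (D : Data S t E E₀ x l) (hl : 5 ≤ l)
    (hK : PropKnown.{u}) (hL : PropKnownFacts.{u})
    (h12 : Nat.card ↥(E₀ ⊓ centralizer ({x} : Set G)) = 12) : False := by
  have C := D.ctx
  obtain ⟨r, hr, hlr⟩ := D.exists_index
  rw [h12] at hr
  have hlp : l.Prime := Fact.out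
  rcases (Cent.centralizer_small C.jr C.ord C.mem C.cent D.cen D.odd_ord hK hL D.ne_one h12).2 with
    ⟨-, hle⟩ | ⟨K, -, hKn, -, -, hTK, hev, h504⟩
  · have htop : D.Hb = ⊤ := eq_top_iff.2 fun y _ => by
      obtain ⟨g, rfl⟩ := qm_surjective _ y
      exact mem_map_of_mem _ (mem_subgroupOf.2 (hle g.2))
    have hX : Nat.card (Quo (centralizer ({x} : Set G))) = 168 := by
      rw [← Subgroup.card_top, ← htop, D.card_Hb]
    rw [hX] at hr
    obtain rfl : l = 7 := by
      have : l ∣ 7 := by rwa [show r = 7 by omega] at hlr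
      exact (Nat.prime_dvd_prime_iff_eq hlp (by norm_num)).1 this
    exact D.false_of_solvable h12 htop
  · have hidx := D.index_even hL hKn hTK hev
    rw [← K.card_mul_index, h504] at hr
    obtain rfl : l = 7 := by
      have h : l ∣ 7 * 3 * 3 := by
        refine hlr.trans ?_
        rw [show r = 7 * 3 * K.index by omega]
        exact Nat.mul_dvd_mul_left _ hidx
      rcases hlp.dvd_mul.1 h with h | h
      · rcases hlp.dvd_mul.1 h with h | h
        · exact (Nat.prime_dvd_prime_iff_eq hlp (by norm_num)).1 h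
        · have := Nat.le_of_dvd (by norm_num) h; omega
      · have := Nat.le_of_dvd (by norm_num) h; omega
    exact D.false_of_even h12 hKn (hL.1 _ (Or.inl hev)).simple h504 hidx

end Cfsg.Agent.Lib.Walter.NoField.SmallPrime
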